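import Cfsg.Agent.Lib.Chev.Steinberg
import Cfsg.Prelude.Def_SteinbergCover

/-!
The group presented by the first two relator families: generators, the map onto the Chevalley group, and its unipotent
subgroups attached to positive systems, on which that map is injective.
-/

set_option autoImplicit false

namespace Cfsg.Agent.Lib.Chev

open Cfsg.Lie
open scoped Matrix

variable {D : ChevalleyDatum} {T : Tables} {K : Type*} [Field K]

/-- The generator of the presented group. -/
abbrev c_xb (D : ChevalleyDatum) (K : Type*) [Field K] (r : ℕ) (t : K) : D.SteinbergCover K :=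
  D.scGen K r t

/-- A product of generators. -/
def c_wordB (D : ChevalleyDatum) (K : Type*) [Field K] (w : List (ℕ × K)) : D.SteinbergCover K :=
  (w.map fun p => c_xb D K p.1 p.2).prod

/-- `n̄_r(t)`. -/
def c_nb (D : ChevalleyDatum) (K : Type*) [Field K] (r : ℕ) (t : K) : D.SteinbergCover K :=
  c_wordB D K (D.nWord r t)

/-- `h̄_r(t)`. -/
def c_hb (D : ChevalleyDatum) (K : Type*) [Field K] (r : ℕ) (t : K) : D.SteinbergCover K :=
  c_wordB D K (D.hWord r t)

theorem c_mk_stWord (w : List (ℕ × K)) :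
    PresentedGroup.mk (D.steinbergRelsAB K) (D.stWord w) = c_wordB D K w := by
  rw [ChevalleyDatum.stWord, map_list_prod, List.map_map]
  rfl

theorem c_xb_add {r : ℕ} (hr : r < D.nroots) (t u : K) :
    c_xb D K r t * c_xb D K r u = c_xb D K r (t + u) := by
  have h : PresentedGroup.mk (D.steinbergRelsAB K)
      (D.stX r t * D.stX r u * (D.stX r (t + u))⁻¹) = 1 :=
    PresentedGroup.one_of_mem (Or.inl ⟨r, t, u, hr, rfl⟩)
  simp only [map_mul, map_inv, mul_inv_eq_one] at h
  exact h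

theorem c_xb_zero {r : ℕ} (hr : r < D.nroots) : c_xb D K r (0 : K) = 1 := by
  have := c_xb_add (K := K) hr 0 0
  rw [add_zero] at this
  exact mul_eq_left.1 this

theorem c_xb_inv {r : ℕ} (hr : r < D.nroots) (t : K) : (c_xb D K r t)⁻¹ = c_xb D K r (-t) :=
  inv_eq_of_mul_eq_one_right (by rw [c_xb_add hr, add_neg_cancel, c_xb_zero hr])

theorem c_xb_comm {r s : ℕ} (hr : r < D.nroots) (hs : s < D.nroots) (hne : s ≠ r)
    (hne' : s ≠ D.neg r) (t u : K) :
    c_xb D K s u * c_xb D K r t = c_xb D K r t * c_xb D K s u * c_wordB D K (D.commWord K r s t u) := by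
  have h : PresentedGroup.mk (D.steinbergRelsAB K) ((D.stX s u)⁻¹ * (D.stX r t)⁻¹ * D.stX s u *
      D.stX r t * (D.stWord (D.commWord K r s t u))⁻¹) = 1 :=
    PresentedGroup.one_of_mem (Or.inr ⟨r, s, t, u, hr, hs, hne, hne', rfl⟩)
  simp only [map_mul, map_inv, mul_inv_eq_one, c_mk_stWord] at h
  rw [← h]
  simp only [ChevalleyDatum.scGen]
  group

/-- Positive system of a word. -/
def c_frameU (D : ChevalleyDatum) (T : Tables) (K : Type*) [Field K] (l : List ℕ) (k : ℕ) :
    Subgroup (D.SteinbergCover K) :=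
  Subgroup.closure {g | ∃ q t, q < D.nroots ∧ npos D ≤ wl T l q ∧ k ≤ wl T l q ∧ g = c_xb D K q t}

namespace Good

variable (G : Good D T)
include G

theorem c_nb_eq {r : ℕ} (hr : r < D.nroots) (t : K) :
    c_nb D K r t = c_xb D K r t * c_xb D K (ng D r) (-t⁻¹) * c_xb D K r t := by
  simp [c_nb, c_wordB, ChevalleyDatum.nWord, G.neg_eq hr, mul_assoc]

omit G in
theorem c_hb_eq (r : ℕ) (t : K) : c_hb D K r t = c_nb D K r t * c_nb D K r (-1) := by
  simp [c_hb, c_nb, c_wordB, ChevalleyDatum.hWord]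

theorem c_nb_inv {r : ℕ} (hr : r < D.nroots) (t : K) : (c_nb D K r t)⁻¹ = c_nb D K r (-t) := by
  rw [G.c_nb_eq hr, G.c_nb_eq hr, mul_inv_rev, mul_inv_rev, c_xb_inv hr, c_xb_inv (G.ng_lt hr), inv_neg,
    mul_assoc]

theorem c_scGen_rels : ∀ g ∈ D.steinbergRelsAB K,
    FreeGroup.lift (fun p : Fin D.nroots × K =>
      (⟨G.X K p.1.val p.2, G.X_mem_group p.1.isLt p.2⟩ : ↥(D.group K))) g = 1 := by
  set f := fun p : Fin D.nroots × K =>
    (⟨G.X K p.1.val p.2, G.X_mem_group p.1.isLt p.2⟩ : ↥(D.group K)) with hf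
  have hX : ∀ r t, r < D.nroots →
      ((FreeGroup.lift f (D.stX r t) : ↥(D.group K)) : GL D.Idx K) = G.X K r t := by
    intro r t hr
    simp [ChevalleyDatum.stX, hr, hf]
  have hW : ∀ w : List (ℕ × K), (∀ p ∈ w, p.1 < D.nroots) →
      ((FreeGroup.lift f (D.stWord w) : ↥(D.group K)) : GL D.Idx K) = G.wordG w := by
    intro w hw
    rw [ChevalleyDatum.stWord, map_list_prod, List.map_map, SubmonoidClass.coe_list_prod,
      List.map_map, Good.wordG]
    congr 1
    exact List.map_congr_left fun p hp => hX p.1 p.2 (hw p hp)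
  intro g hg
  refine Subtype.ext ?_
  rw [Subgroup.coe_one]
  rcases hg with ⟨r, t, u, hr, rfl⟩ | ⟨r, s, t, u, hr, hs, h1, h2, rfl⟩
  · simp only [map_mul, map_inv, Subgroup.coe_mul, Subgroup.coe_inv, hX _ _ hr, G.X_add,
      mul_inv_cancel]
  · rw [G.neg_eq hr] at h2
    simp only [map_mul, map_inv, Subgroup.coe_mul, Subgroup.coe_inv, hX _ _ hr, hX _ _ hs]
    rw [mul_inv_eq_one, hW _ ?_, G.commWord_eq hr hs]
    · rw [mul_assoc _ (G.X K s u), G.commAt r s hr hs h1 h2 t u]
      group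
    · intro p hp
      rw [G.commWord_eq hr hs] at hp
      obtain ⟨⟨k, C, a, b⟩, hc, rfl⟩ := List.mem_map.1 hp
      exact (G.mem_terms hr hs hc).1

/-- The map onto the Chevalley group. -/
def c_theta (K : Type*) [Field K] : D.SteinbergCover K →* ↥(D.group K) :=
  PresentedGroup.toGroup G.c_scGen_rels

/-- The map into the general linear group. -/
def c_th (K : Type*) [Field K] : D.SteinbergCover K →* GL D.Idx K :=
  (D.group K).subtype.comp (G.c_theta K)

theorem c_th_xb {r : ℕ} (hr : r < D.nroots) (t : K) : G.c_th K (c_xb D K r t) = G.X K r t := by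
  show ((PresentedGroup.toGroup G.c_scGen_rels
    (PresentedGroup.mk (D.steinbergRelsAB K) (D.stX r t)) : ↥(D.group K)) : GL D.Idx K) = _
  rw [ChevalleyDatum.stX, dif_pos hr]
  exact congrArg Subtype.val (PresentedGroup.toGroup.of G.c_scGen_rels)

theorem c_th_nb {r : ℕ} (hr : r < D.nroots) (t : K) : G.c_th K (c_nb D K r t) = G.Ng K r t := by
  rw [G.c_nb_eq hr, map_mul, map_mul, G.c_th_xb hr, G.c_th_xb (G.ng_lt hr)]; rfl

theorem c_th_hb {r : ℕ} (hr : r < D.nroots) (t : K) : G.c_th K (c_hb D K r t) = G.Hg K r t := by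
  rw [c_hb_eq, map_mul, G.c_th_nb hr, G.c_th_nb hr]; rfl

theorem c_xb_eq_of_X_eq {a b : ℕ} (ha : a < D.nroots) (c_hb : b < D.nroots) {t u : K}
    (h : G.X K a t = G.X K b u) : c_xb D K a t = c_xb D K b u := by
  by_cases ht : t = 0
  · subst ht
    rw [G.X_zero, eq_comm, G.X_eq_one_iff c_hb] at h
    rw [h, c_xb_zero ha, c_xb_zero c_hb]
  · obtain rfl := G.X_root_inj ha c_hb ht h
    rw [G.X_injective ha h]

omit G in
theorem c_st_generated (H : Subgroup (D.SteinbergCover K))
    (h : ∀ r < D.nroots, ∀ t : K, c_xb D K r t ∈ H) (g : D.SteinbergCover K) : g ∈ H := by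
  refine PresentedGroup.generated_by _ H (fun p => ?_) g
  have h' := h p.1.val p.1.isLt p.2
  rw [c_xb, ChevalleyDatum.scGen, ChevalleyDatum.stX, dif_pos p.1.isLt] at h'
  exact h'

/-! ### Positive systems -/

theorem c_frame_decomp {l : List ℕ} (hl : IsW D l) {k : ℕ} (hk : k < D.nroots) (hpk : npos D ≤ k)
    {g : D.SteinbergCover K} (hg : g ∈ c_frameU D T K l k) :
    ∃ t, ∃ h ∈ c_frameU D T K l (k + 1), g = c_xb D K (wl T l.reverse k) t * h := by
  set q0 := wl T l.reverse k with hq0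
  have hq0lt : q0 < D.nroots := G.wl_lt hl.reverse hk
  have hwq0 : wl T l q0 = k := G.wl_wl_reverse hl hk
  have conj : ∀ q, q < D.nroots → k < wl T l q → ∀ t u : K,
      (c_xb D K q0 t)⁻¹ * c_xb D K q u * c_xb D K q0 t ∈ c_frameU D T K l (k + 1) := by
    intro q hq hkq t u
    have h1 : q ≠ q0 := fun e => by rw [e, hwq0] at hkq; omega
    have h2 : q ≠ D.neg q0 := fun e => by
      rw [e, G.neg_eq hq0lt, G.wl_ng hl hq0lt, hwq0] at hkq
      have := G.even_n; unfold ng at hkq; omega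
    rw [mul_assoc, c_xb_comm hq0lt hq h1 h2 t u, mul_assoc (c_xb D K q0 t), inv_mul_cancel_left]
    refine mul_mem (Subgroup.subset_closure ⟨q, u, hq, by omega, hkq, rfl⟩) ?_
    refine list_prod_mem fun x hx => ?_
    obtain ⟨p, hp, rfl⟩ := List.mem_map.1 hx
    rw [G.commWord_eq hq0lt hq] at hp
    obtain ⟨⟨j, C, a, b⟩, hc, rfl⟩ := List.mem_map.1 hp
    obtain ⟨hj, h3, h4⟩ := G.terms_gt_wl hl hq0lt hq (by omega) (by omega) hc
    exact Subgroup.subset_closure ⟨j, _, hj, by omega, by omega, rfl⟩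
  induction hg using Subgroup.closure_induction_left with
  | one => exact ⟨0, 1, one_mem _, by rw [c_xb_zero hq0lt, mul_one]⟩
  | mul_left x hx y _ ih =>
    obtain ⟨q, u, hq, hpq, hkq, rfl⟩ := hx
    obtain ⟨t, h, hh, rfl⟩ := ih
    rcases Nat.eq_or_lt_of_le hkq with he | hlt
    · obtain rfl : q = q0 := by rw [hq0, he, G.wl_reverse_wl hl hq]
      exact ⟨u + t, h, hh, by rw [← mul_assoc, c_xb_add hq0lt]⟩
    · exact ⟨t, _, mul_mem (conj q hq hlt t u) hh, by group⟩
  | inv_mul_cancel x hx y _ ih =>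
    obtain ⟨q, u, hq, hpq, hkq, rfl⟩ := hx
    obtain ⟨t, h, hh, rfl⟩ := ih
    rw [c_xb_inv hq]
    rcases Nat.eq_or_lt_of_le hkq with he | hlt
    · obtain rfl : q = q0 := by rw [hq0, he, G.wl_reverse_wl hl hq]
      exact ⟨-u + t, h, hh, by rw [← mul_assoc, c_xb_add hq0lt]⟩
    · exact ⟨t, _, mul_mem (conj q hq hlt t (-u)) hh, by group⟩

theorem c_th_frame_mem {l : List ℕ} (hl : IsW D l) {k : ℕ} {g : D.SteinbergCover K}
    (hg : g ∈ c_frameU D T K l k) : G.nl K l * G.c_th K g * (G.nl K l)⁻¹ ∈ G.tailU K k := by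
  have h : c_frameU D T K l k ≤
      (G.tailU K k).comap ((MulAut.conj (G.nl K l)).toMonoidHom.comp (G.c_th K)) := by
    refine (Subgroup.closure_le _).2 ?_
    rintro g ⟨q, t, hq, hp, hkq, rfl⟩
    show G.nl K l * G.c_th K (c_xb D K q t) * (G.nl K l)⁻¹ ∈ G.tailU K k
    rw [G.c_th_xb hq, G.nl_conj_X hl hq]
    exact G.X_mem_tail (G.wl_lt hl hq) hp hkq _
  exact h hg

theorem c_frame_inj_aux {l : List ℕ} (hl : IsW D l) : ∀ (m k : ℕ), npos D ≤ k → k + m = D.nroots →
    ∀ g ∈ c_frameU D T K l k, G.c_th K g = 1 → g = 1 := by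
  intro m
  induction m with
  | zero =>
    intro k _ hkm g hg _
    have h0 : c_frameU D T K l k = ⊥ := by
      refine eq_bot_iff.2 ((Subgroup.closure_le _).2 ?_)
      rintro g ⟨q, t, hq, -, hkq, rfl⟩
      have := G.wl_lt hl hq
      omega
    rw [h0, Subgroup.mem_bot] at hg
    exact hg
  | succ m ih =>
    intro k hk hkm g hg h1
    obtain ⟨t, h, hh, rfl⟩ := G.c_frame_decomp hl (by omega) hk hg
    have hq0 := G.wl_lt hl.reverse (show k < D.nroots by omega)
    rw [map_mul, G.c_th_xb hq0] at h1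
    have h2 := G.c_th_frame_mem hl hh
    have ht : (el T l (wl T l.reverse k) : K) * t = 0 := by
      refine G.X_tail_eq_zero (show k < D.nroots by omega) hk ?_
      have e : G.X K k ((el T l (wl T l.reverse k) : K) * t) =
          (G.nl K l * G.c_th K h * (G.nl K l)⁻¹)⁻¹ := by
        rw [eq_inv_of_mul_eq_one_right (a := G.X K (wl T l.reverse k) t) h1]
        have := G.nl_conj_X (F := K) hl hq0 t
        rw [G.wl_wl_reverse hl (show k < D.nroots by omega)] at this
        rw [← this]; group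
      rw [e]
      exact inv_mem h2
    have ht0 : t = 0 := by
      rcases el_eq_or (T := T) l (wl T l.reverse k) with he | he <;> simpa [he] using ht
    subst ht0
    rw [G.X_zero, one_mul] at h1
    rw [c_xb_zero hq0, one_mul]
    exact ih (k + 1) (by omega) (by omega) h hh h1

/-- The map is injective on the unipotent subgroup of a positive system. -/
theorem c_frame_inj {l : List ℕ} (hl : IsW D l) {g g' : D.SteinbergCover K}
    (hg : g ∈ c_frameU D T K l (npos D)) (hg' : g' ∈ c_frameU D T K l (npos D))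
    (h : G.c_th K g = G.c_th K g') : g = g' :=
  inv_mul_eq_one.1 (G.c_frame_inj_aux hl (npos D) (npos D) le_rfl (by have := G.even_n; omega) _
    (mul_mem (inv_mem hg) hg') (by rw [map_mul, map_inv, h, inv_mul_cancel]))

end Good

end Cfsg.Agent.Lib.Chev
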