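import Cfsg.Agent.Lib.Chev.Cov.Move

/-!
Bruhat decomposition of Steinberg's presented group: the kernel of the map onto the Chevalley
group is the centre and lies in the lifted torus.
-/

set_option autoImplicit false

namespace Cfsg.Agent.Lib.Chev

open Cfsg.Lie
open scoped Matrix

variable {D : ChevalleyDatum} {T : Tables} {K : Type*} [Field K]

/-- `n̄_w` for a word `w` in the fundamental reflections. -/
def c_nlb (D : ChevalleyDatum) (K : Type*) [Field K] (l : List ℕ) : D.SteinbergCover K :=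
  (l.map fun i => c_nb D K (sim D i) 1).prod

/-- The lifted monomial group. -/
def c_Nbar (D : ChevalleyDatum) (K : Type*) [Field K] : Subgroup (D.SteinbergCover K) :=
  Subgroup.closure {g | ∃ i t, i < D.rank ∧ t ≠ 0 ∧ g = c_nb D K (sim D i) t}

/-- The lifted torus. -/
def c_Hbar (D : ChevalleyDatum) (K : Type*) [Field K] : Subgroup (D.SteinbergCover K) :=
  Subgroup.closure {g | ∃ i t, i < D.rank ∧ t ≠ 0 ∧ g = c_hb D K (sim D i) t}

/-- The lifted unipotent group. -/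
abbrev c_Ubar (D : ChevalleyDatum) (T : Tables) (K : Type*) [Field K] :
    Subgroup (D.SteinbergCover K) :=
  c_frameU D T K [] (npos D)

theorem c_nlb_nil : c_nlb D K [] = 1 := rfl

theorem c_nlb_cons (i : ℕ) (l : List ℕ) : c_nlb D K (i :: l) = c_nb D K (sim D i) 1 * c_nlb D K l := by
  simp [c_nlb]

theorem c_nlb_append (l l' : List ℕ) : c_nlb D K (l ++ l') = c_nlb D K l * c_nlb D K l' := by
  simp [c_nlb]

namespace Good

variable (G : Good D T)
include G

theorem c_xb_mem_Ubar {q : ℕ} (hq : q < D.nroots) (hp : npos D ≤ q) (t : K) :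
    c_xb D K q t ∈ c_Ubar D T K :=
  Subgroup.subset_closure ⟨q, t, hq, hp, hp, rfl⟩

theorem c_th_Ubar_mem {g : D.SteinbergCover K} (hg : g ∈ c_Ubar D T K) :
    G.c_th K g ∈ D.posUnipotent K := by
  have h : c_Ubar D T K ≤ (D.posUnipotent K).comap (G.c_th K) := by
    refine (Subgroup.closure_le _).2 ?_
    rintro g ⟨q, t, hq, hp, -, rfl⟩
    show G.c_th K (c_xb D K q t) ∈ D.posUnipotent K
    rw [G.c_th_xb hq]
    exact G.X_mem_posUnipotent hq hp t
  exact h hg

theorem c_Ubar_inj {g g' : D.SteinbergCover K} (hg : g ∈ c_Ubar D T K) (hg' : g' ∈ c_Ubar D T K)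
    (h : G.c_th K g = G.c_th K g') : g = g' :=
  G.c_frame_inj isW_nil hg hg' h

/-- Lift of a subgroup generated by positive root groups. -/
theorem c_exists_lift_USub {S : Set ℕ} {u : GL D.Idx K} (hu : u ∈ G.USub K S) :
    ∃ a ∈ Subgroup.closure {g | ∃ q t, q < D.nroots ∧ npos D ≤ q ∧ q ∈ S ∧ g = c_xb D K q t},
      G.c_th K a = u := by
  have h : G.USub K S ≤ (Subgroup.closure
      {g | ∃ q t, q < D.nroots ∧ npos D ≤ q ∧ q ∈ S ∧ g = c_xb D K q t}).map (G.c_th K) := by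
    refine G.USub_le_of fun q hq hp hS t => ?_
    exact ⟨_, Subgroup.subset_closure ⟨q, t, hq, hp, hS, rfl⟩, G.c_th_xb hq t⟩
  exact h hu

theorem c_th_nlb {l : List ℕ} (hl : IsW D l) : G.c_th K (c_nlb D K l) = G.nl K l := by
  induction l with
  | nil => rw [c_nlb_nil, map_one, G.nl_nil]
  | cons i l ih =>
    rw [c_nlb_cons, map_mul, G.nl_cons, ih hl.tail.2, G.c_th_nb (G.sim_lt hl.tail.1)]
    rfl

theorem c_nlb_mem {l : List ℕ} (hl : IsW D l) : c_nlb D K l ∈ c_Nbar D K :=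
  list_prod_mem fun x hx => by
    obtain ⟨i, hi, rfl⟩ := List.mem_map.1 hx
    exact Subgroup.subset_closure ⟨i, 1, hl i hi, one_ne_zero, rfl⟩

theorem c_mv_of_mem_Nbar (ha : chkAdj D T = true) {n : D.SteinbergCover K} (hn : n ∈ c_Nbar D K) :
    c_Mv D K n := by
  induction hn using Subgroup.closure_induction_left with
  | one => exact c_mv_one
  | mul_left x hx y _ ih =>
    obtain ⟨i, t, hi, ht, rfl⟩ := hx
    exact c_mv_mul (G.c_mv_nb ha (G.sim_lt hi) ht) ih
  | inv_mul_cancel x hx y _ ih =>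
    obtain ⟨i, t, hi, ht, rfl⟩ := hx
    rw [G.c_nb_inv (G.sim_lt hi)]
    exact c_mv_mul (G.c_mv_nb ha (G.sim_lt hi) (neg_ne_zero.2 ht)) ih

theorem c_th_Nbar_mem {n : D.SteinbergCover K} (hn : n ∈ c_Nbar D K) :
    G.c_th K n ∈ D.monomialSubgroup K := by
  have h : c_Nbar D K ≤ (D.monomialSubgroup K).comap (G.c_th K) := by
    refine (Subgroup.closure_le _).2 ?_
    rintro g ⟨i, t, hi, ht, rfl⟩
    show G.c_th K (c_nb D K (sim D i) t) ∈ D.monomialSubgroup K
    rw [G.c_th_nb (G.sim_lt hi)]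
    exact G.monomial_of_rep (G.rep_Ng_sim hi ht)
  exact h hn

theorem c_conj_nb {g : D.SteinbergCover K} {l : List ℕ} (hg : c_Mv D K g) (hl : G.Rep K (G.c_th K g) l)
    {a : ℕ} (ha : a < D.nroots) :
    ∃ c : K, c ≠ 0 ∧ ∀ t, g * c_nb D K a t * g⁻¹ = c_nb D K (wl T l a) (c * t) := by
  obtain ⟨c, hc, h1, h2⟩ := G.rep_conj_pm hl ha
  have hfa := G.wl_lt hl.1 ha
  refine ⟨c, hc, fun t => ?_⟩
  have e1 := G.c_mv_eq hg ha hfa (h1 t)
  have e2 := G.c_mv_eq hg (G.ng_lt ha) (G.ng_lt hfa) (h2 (-t⁻¹))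
  rw [G.c_nb_eq ha, G.c_nb_eq hfa]
  calc g * (c_xb D K a t * c_xb D K (ng D a) (-t⁻¹) * c_xb D K a t) * g⁻¹
      = (g * c_xb D K a t * g⁻¹) * (g * c_xb D K (ng D a) (-t⁻¹) * g⁻¹) *
        (g * c_xb D K a t * g⁻¹) := by group
    _ = _ := by rw [e1, e2, mul_inv, mul_neg]

/-! ### The Bruhat decomposition -/

theorem c_st_eq_UNU (ha : chkAdj D T = true) (g : D.SteinbergCover K) :
    ∃ a ∈ c_Ubar D T K, ∃ n ∈ c_Nbar D K, ∃ c ∈ c_Ubar D T K, g = a * n * c := by
  -- `Ω` is stable under left multiplication by the generators of `c_Nbar` and by `c_Ubar`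
  set P : D.SteinbergCover K → Prop := fun g =>
    ∃ a ∈ c_Ubar D T K, ∃ n ∈ c_Nbar D K, ∃ c ∈ c_Ubar D T K, g = a * n * c with hP
  have hU : ∀ u ∈ c_Ubar D T K, ∀ g, P g → P (u * g) := by
    rintro u hu g ⟨a, hamem, n, hn, c, hc, rfl⟩
    exact ⟨u * a, mul_mem hu hamem, n, hn, c, hc, by group⟩
  have hN : ∀ i < D.rank, ∀ t : K, t ≠ 0 → ∀ g, P g → P (c_nb D K (sim D i) t * g) := by
    rintro i hi t ht g ⟨a, hamem, n, hn, c, hc, rfl⟩
    have hp := G.sim_lt hi
    have hpp := G.sim_pos hi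
    set m := c_nb D K (sim D i) t with hm_def
    have hmN : m ∈ c_Nbar D K := Subgroup.subset_closure ⟨i, t, hi, ht, rfl⟩
    have hmM : c_Mv D K m := G.c_mv_nb ha hp ht
    have hmR : G.Rep K (G.c_th K m) [i] := by rw [hm_def, G.c_th_nb hp]; exact G.rep_Ng_sim hi ht
    obtain ⟨u1, hu1, s, he⟩ := G.exists_keep_X hi (G.c_th_Ubar_mem hamem)
    obtain ⟨a1, ha1, ea1⟩ := G.c_exists_lift_USub hu1
    have ha1U : a1 ∈ c_Ubar D T K := by
      refine Subgroup.closure_mono ?_ ha1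
      rintro g ⟨q, v, hq, hq', -, rfl⟩
      exact ⟨q, v, hq, hq', hq', rfl⟩
    have ea : a = a1 * c_xb D K (sim D i) s :=
      G.c_Ubar_inj hamem (mul_mem ha1U (G.c_xb_mem_Ubar hp hpp s))
        (by rw [map_mul, ea1, G.c_th_xb hp, he])
    have hconj : m * a1 * m⁻¹ ∈ c_Ubar D T K := by
      have hle : Subgroup.closure
          {g | ∃ q v, q < D.nroots ∧ npos D ≤ q ∧ q ∈ keepSet D T [i] ∧ g = c_xb D K q v} ≤
          (c_Ubar D T K).comap (MulAut.conj m).toMonoidHom := by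
        refine (Subgroup.closure_le _).2 ?_
        rintro g ⟨q, v, hq, -, hkeep, rfl⟩
        show m * c_xb D K q v * m⁻¹ ∈ c_Ubar D T K
        obtain ⟨hf, d, -, hd⟩ := G.rep_act hmR q hq
        rw [G.c_mv_eq hmM hq hf (hd v)]
        exact G.c_xb_mem_Ubar hf hkeep _
      exact hle ha1
    suffices h : P (m * c_xb D K (sim D i) s * n * c) by
      have e : m * (a * n * c) = m * a1 * m⁻¹ * (m * c_xb D K (sim D i) s * n * c) := by
        rw [ea]; group
      rw [e]
      exact hU _ hconj _ h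
    obtain ⟨l, hl⟩ := G.exists_rep (G.c_th_Nbar_mem hn)
    have hnM := G.c_mv_of_mem_Nbar ha hn
    have hinv : ∀ (g : D.SteinbergCover K) (l : List ℕ), c_Mv D K g⁻¹ → G.Rep K (G.c_th K g) l →
        ∀ q, q < D.nroots → ∀ v, ∃ w, c_xb D K q v * g = g * c_xb D K (wl T l.reverse q) w := by
      intro g l hgM hgl q hq v
      obtain ⟨w, hw⟩ := G.act_inv_X hgl hq v
      refine ⟨w, ?_⟩
      have := G.c_mv_eq hgM (u := v) hq (G.wl_lt hgl.1.reverse hq) (c := w)
        (by rwa [map_inv, inv_inv])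
      rw [← this]; group
    have hnI : c_Mv D K n⁻¹ := G.c_mv_of_mem_Nbar ha (inv_mem hn)
    by_cases hs : s = 0
    · subst hs
      exact ⟨1, one_mem _, m * n, mul_mem hmN hn, c, hc, by rw [c_xb_zero hp]; group⟩
    by_cases hpos : npos D ≤ wl T l.reverse (sim D i)
    · obtain ⟨w, hw⟩ := hinv n l hnI hl _ hp s
      refine ⟨1, one_mem _, m * n, mul_mem hmN hn, c_xb D K (wl T l.reverse (sim D i)) w * c,
        mul_mem (G.c_xb_mem_Ubar (G.wl_lt hl.1.reverse hp) hpos w) hc, ?_⟩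
      rw [mul_assoc m _ n, hw]; group
    · obtain ⟨hf, d, hd0, hd⟩ := G.rep_act hmR _ hp
      have hwi : wl T [i] (sim D i) = ng D (sim D i) := by simp [wl, G.w_sim hi]
      rw [hwi] at hd hf
      have e1 := G.c_mv_eq hmM hp hf (hd s)
      set v := d * s with hv_def
      have hv : v ≠ 0 := mul_ne_zero hd0 hs
      have hw0 : (-v⁻¹ : K) ≠ 0 := neg_ne_zero.2 (inv_ne_zero hv)
      have e2 : c_xb D K (ng D (sim D i)) v =
          c_xb D K (sim D i) v⁻¹ * c_nb D K (sim D i) (-v⁻¹) * c_xb D K (sim D i) v⁻¹ := by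
        rw [G.c_nb_eq hp, inv_neg, inv_inv, neg_neg, ← mul_assoc, ← mul_assoc, c_xb_add hp,
          add_neg_cancel, c_xb_zero hp, one_mul, mul_assoc, c_xb_add hp, neg_add_cancel, c_xb_zero hp,
          mul_one]
      have hmI : c_Mv D K m⁻¹ := G.c_mv_of_mem_Nbar ha (inv_mem hmN)
      obtain ⟨w1, hw1⟩ := hinv m [i] hmI hmR _ hp v⁻¹
      have hwi' : wl T [i].reverse (sim D i) = ng D (sim D i) := hwi
      rw [hwi'] at hw1
      obtain ⟨w2, hw2⟩ := hinv n l hnI hl _ hf w1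
      have hpos' : npos D ≤ wl T l.reverse (ng D (sim D i)) := by
        rw [G.wl_ng hl.1.reverse hp, G.ng_pos_iff (G.wl_lt hl.1.reverse hp)]
        omega
      refine ⟨c_xb D K (sim D i) v⁻¹, G.c_xb_mem_Ubar hp hpp _,
        c_nb D K (sim D i) (-v⁻¹) * m * n,
        mul_mem (mul_mem (Subgroup.subset_closure ⟨i, _, hi, hw0, rfl⟩) hmN) hn,
        c_xb D K (wl T l.reverse (ng D (sim D i))) w2 * c,
        mul_mem (G.c_xb_mem_Ubar (G.wl_lt hl.1.reverse hf) hpos' w2) hc, ?_⟩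
      calc m * c_xb D K (sim D i) s * n * c
          = m * c_xb D K (sim D i) s * m⁻¹ * m * n * c := by group
        _ = c_xb D K (sim D i) v⁻¹ * c_nb D K (sim D i) (-v⁻¹) * (c_xb D K (sim D i) v⁻¹ * m) * n * c := by
            rw [e1, e2]; group
        _ = c_xb D K (sim D i) v⁻¹ * c_nb D K (sim D i) (-v⁻¹) * m *
              (c_xb D K (ng D (sim D i)) w1 * n) * c := by rw [hw1]; group
        _ = _ := by rw [hw2]; group
  have hNall : ∀ n ∈ c_Nbar D K, ∀ g, P g → P (n * g) := by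
    intro n hn
    induction hn using Subgroup.closure_induction_left with
    | one => intro g hg; rwa [one_mul]
    | mul_left x hx y _ ih =>
      obtain ⟨i, t, hi, ht, rfl⟩ := hx
      intro g hg
      rw [mul_assoc]
      exact hN i hi t ht _ (ih g hg)
    | inv_mul_cancel x hx y _ ih =>
      obtain ⟨i, t, hi, ht, rfl⟩ := hx
      intro g hg
      rw [mul_assoc, G.c_nb_inv (G.sim_lt hi)]
      exact hN i hi _ (neg_ne_zero.2 ht) _ (ih g hg)
  have hX : ∀ r < D.nroots, ∀ t : K, ∀ g, P g → P (c_xb D K r t * g) := by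
    intro r hr t g hg
    obtain ⟨l, hl, i, hi, he⟩ := G.exists_frame r hr
    have hn := G.c_nlb_mem (K := K) hl
    have hrep : G.Rep K (G.c_th K (c_nlb D K l)) l := by rw [G.c_th_nlb hl]; exact G.rep_nl hl
    obtain ⟨hf, d, -, hd⟩ := G.rep_act hrep r hr
    have e := G.c_mv_eq (G.c_mv_of_mem_Nbar ha hn) hr hf (hd t)
    have e' : c_xb D K r t * g =
        (c_nlb D K l)⁻¹ * (c_xb D K (wl T l r) (d * t) * (c_nlb D K l * g)) := by
      rw [← e]; group
    rw [e']
    refine hNall _ (inv_mem hn) _ (hU _ ?_ _ (hNall _ hn _ hg))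
    exact G.c_xb_mem_Ubar hf (by rw [he]; exact G.sim_pos hi) _
  have h1 : P 1 := ⟨1, one_mem _, 1, one_mem _, 1, one_mem _, by group⟩
  have hall : ∀ x, (∀ y, P y → P (x * y)) ∧ ∀ y, P y → P (x⁻¹ * y) := by
    let S : Subgroup (D.SteinbergCover K) :=
      { carrier := {x | (∀ y, P y → P (x * y)) ∧ ∀ y, P y → P (x⁻¹ * y)}
        one_mem' := ⟨fun y hy => by rwa [one_mul], fun y hy => by rwa [inv_one, one_mul]⟩
        mul_mem' := fun {p q} hp hq => ⟨fun y hy => by rw [mul_assoc]; exact hp.1 _ (hq.1 _ hy),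
          fun y hy => by rw [mul_inv_rev, mul_assoc]; exact hq.2 _ (hp.2 _ hy)⟩
        inv_mem' := fun {p} hp => ⟨hp.2, by rw [inv_inv]; exact hp.1⟩ }
    intro x
    refine c_st_generated S (fun r hr t => ?_) x
    exact ⟨hX r hr t, fun y hy => by rw [c_xb_inv hr]; exact hX r hr _ y hy⟩
  have := (hall g).1 1 h1
  rwa [mul_one] at this

theorem c_ker_le (ha : chkAdj D T = true) {g : D.SteinbergCover K} (hg : G.c_th K g = 1) :
    g ∈ c_Nbar D K ∧ g ∈ Subgroup.center (D.SteinbergCover K) := by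
  obtain ⟨a, hamem, n, hn, c, hc, rfl⟩ := G.c_st_eq_UNU ha g
  rw [map_mul, map_mul] at hg
  have h1 : G.c_th K n ∈ D.posUnipotent K := by
    have e : G.c_th K n = (G.c_th K a)⁻¹ * (G.c_th K c)⁻¹ := by
      rw [← mul_inv_eq_one, mul_inv_rev, inv_inv, inv_inv]
      have : G.c_th K n * (G.c_th K c * G.c_th K a) =
          (G.c_th K a)⁻¹ * (G.c_th K a * G.c_th K n * G.c_th K c) * G.c_th K a := by group
      rw [this, hg]; group
    rw [e]
    exact mul_mem (inv_mem (G.c_th_Ubar_mem hamem)) (inv_mem (G.c_th_Ubar_mem hc))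
  have h2 : G.c_th K n = 1 := Subgroup.mem_bot.1 (G.pos_inf_monomial (F := K) ▸
    Subgroup.mem_inf.2 ⟨h1, G.c_th_Nbar_mem hn⟩)
  rw [h2, mul_one, ← map_mul] at hg
  have h3 : a * c = 1 := G.c_Ubar_inj (mul_mem hamem hc) (one_mem _) (by rw [hg, map_one])
  have hcn : n ∈ Subgroup.center (D.SteinbergCover K) := by
    refine Subgroup.mem_center_iff.2 fun x => ?_
    refine Subgroup.mem_centralizer_singleton_iff.1 (c_st_generated (Subgroup.centralizer {n}) ?_ x)
    intro r hr t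
    refine Subgroup.mem_centralizer_singleton_iff.2 ?_
    have e := G.c_mv_eq (G.c_mv_of_mem_Nbar ha hn) hr hr (u := t) (c := t)
      (by rw [h2]; group)
    calc c_xb D K r t * n = n * c_xb D K r t * n⁻¹ * n := by rw [e]
      _ = n * c_xb D K r t := by group
  have e : a * n * c = n := by
    have h4 := Subgroup.mem_center_iff.1 hcn a
    rw [h4, mul_assoc, h3, mul_one]
  rw [e]
  exact ⟨hn, hcn⟩

theorem c_theta_surjective : Function.Surjective (G.c_theta K) := by
  intro g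
  have h : D.group K ≤ (G.c_th K).range :=
    G.group_le_of fun r hr t => ⟨c_xb D K r t, G.c_th_xb hr t⟩
  obtain ⟨x, hx⟩ := h g.2
  exact ⟨x, Subtype.ext hx⟩

theorem c_theta_ker (ha : chkAdj D T = true) :
    (G.c_theta K).ker = Subgroup.center (D.SteinbergCover K) := by
  refine le_antisymm (fun g hg => (G.c_ker_le ha ?_).2) (fun g hg => ?_)
  · show ((G.c_theta K g : ↥(D.group K)) : GL D.Idx K) = 1
    rw [MonoidHom.mem_ker.1 hg]; rfl
  · have h : G.c_theta K g ∈ Subgroup.center ↥(D.group K) := by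
      refine Subgroup.mem_center_iff.2 fun y => ?_
      obtain ⟨x, rfl⟩ := G.c_theta_surjective y
      rw [← map_mul, ← map_mul, Subgroup.mem_center_iff.1 hg x]
    rw [G.center_group_eq_bot, Subgroup.mem_bot] at h
    exact h

end Good

end Cfsg.Agent.Lib.Chev
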