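import Cfsg.Agent.Lib.Chev.Cov.Perfect
import Cfsg.Agent.Lib.Chev.StData

/-!
Per-datum facts for the group of the first two relator families.
-/

set_option autoImplicit false

namespace Cfsg.Agent.Lib.Chev

open Cfsg.Lie

theorem c_perfect_group {K : Type*} [Field K] {D : ChevalleyDatum}
    (hD : D ∈ [chevG2, chevB2, chevD4, chevF4, chevE6, chevE7, chevE8])
    (hK : D ∈ [chevB2, chevG2] → ∃ x : K, x ≠ 0 ∧ x ≠ 1) :
    commutator (D.SteinbergCover K) = ⊤ := by
  simp only [List.mem_cons, List.not_mem_nil, or_false] at hD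
  rcases hD with rfl | rfl | rfl | rfl | rfl | rfl | rfl
  · exact goodG2.c_perfect adjG2 (fun _ => hK (by simp)) perfectG2
  · exact goodB2.c_perfect adjB2 (fun _ => hK (by simp)) perfectB2
  · exact goodD4.c_perfect adjD4 (by simp) perfectD4
  · exact goodF4.c_perfect adjF4 (by simp) perfectF4
  · exact goodE6.c_perfect adjE6 (by simp) perfectE6
  · exact goodE7.c_perfect adjE7 (by simp) perfectE7
  · exact goodE8.c_perfect adjE8 (by simp) perfectE8

end Cfsg.Agent.Lib.Chev
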