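import Cfsg.Agent.Lib.Chev.Cov.Data

/-!
Over a finite field the multiplicativity of `h̄_r` follows from the first two relator families.
-/

set_option autoImplicit false

namespace Cfsg.Agent.Lib.Chev

open Cfsg.Lie
open scoped Matrix

variable {D : ChevalleyDatum} {T : Tables} {K : Type*} [Field K]

theorem exists_nonsq_pair [Finite K] (h : ∃ n : K, ¬ IsSquare n) :
    ∃ a : K, ¬ IsSquare a ∧ ¬ IsSquare (1 - a) := by
  classical
  haveI := Fintype.ofFinite K
  obtain ⟨n, hn⟩ := h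
  by_contra hcon
  push Not at hcon
  have hn0 : n ≠ 0 := fun e => hn (e ▸ ⟨0, by simp⟩)
  set NS := Finset.univ.filter fun a : K => ¬ IsSquare a with hNS
  set S := Finset.univ.filter fun a : K => a ≠ 0 ∧ IsSquare a with hS
  have h1 : S.card ≤ NS.card := by
    refine Finset.card_le_card_of_injOn (fun a => n * a) ?_ (fun a _ b _ e => mul_left_cancel₀ hn0 e)
    intro a ha
    simp only [hS, Finset.coe_filter, Finset.mem_univ, true_and, Set.mem_setOf_eq] at ha
    simp only [hNS, Finset.coe_filter, Finset.mem_univ, true_and, Set.mem_setOf_eq]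
    intro hna
    apply hn
    have e : n = n * a * a⁻¹ := by rw [mul_assoc, mul_inv_cancel₀ ha.1, mul_one]
    rw [e]
    exact hna.mul ha.2.inv
  have h2 : NS.card ≤ (S.erase 1).card := by
    refine Finset.card_le_card_of_injOn (fun a => 1 - a) ?_ (fun a _ b _ e => sub_right_inj.1 e)
    intro a ha
    simp only [hNS, Finset.coe_filter, Finset.mem_univ, true_and, Set.mem_setOf_eq] at ha
    simp only [Finset.coe_erase, hS, Finset.coe_filter, Finset.mem_univ, true_and,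
      Set.mem_diff, Set.mem_setOf_eq, Set.mem_singleton_iff]
    have ha0 : a ≠ 0 := fun e => ha (e ▸ ⟨0, by simp⟩)
    have ha1 : a ≠ 1 := fun e => ha (e ▸ ⟨1, by simp⟩)
    exact ⟨⟨sub_ne_zero.2 (Ne.symm ha1), hcon a ha⟩, fun e => ha0 (sub_eq_self.1 e)⟩
  have h3 : (1 : K) ∈ S := by simp [hS]
  rw [Finset.card_erase_of_mem h3] at h2
  have h4 : 0 < S.card := Finset.card_pos.2 ⟨1, h3⟩
  omega

theorem nonsq_mul [Finite K] {a b : K} (ha : ¬ IsSquare a) (hb : ¬ IsSquare b) :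
    IsSquare (a * b) := by
  classical
  haveI := Fintype.ofFinite K
  have ha0 : a ≠ 0 := fun e => ha (e ▸ ⟨0, by simp⟩)
  have hb0 : b ≠ 0 := fun e => hb (e ▸ ⟨0, by simp⟩)
  refine (quadraticChar_one_iff_isSquare (mul_ne_zero ha0 hb0)).1 ?_
  rw [map_mul, quadraticChar_neg_one_iff_not_isSquare.2 ha,
    quadraticChar_neg_one_iff_not_isSquare.2 hb]
  norm_num

namespace Good

variable (G : Good D T)
include G
variable (hadj : chkAdj D T = true)
include hadj

theorem c_n_conj_x {r : ℕ} (hr : r < D.nroots) {t : K} (ht : t ≠ 0) (s : K) :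
    c_nb D K r t * c_xb D K r s * (c_nb D K r t)⁻¹ = c_xb D K (ng D r) (-((t ^ 2)⁻¹ * s)) := by
  refine G.c_mv_eq (G.c_mv_nb hadj hr ht) hr (G.ng_lt hr) ?_
  rw [G.c_th_nb hr]
  have e : G.Ng K r t = G.Hg K r t * G.Ng K r 1 := by
    rw [Good.Hg, ← G.Ng_inv r 1, inv_mul_cancel_right]
  rw [e]
  calc _ = G.Hg K r t * (G.Ng K r 1 * G.X K r s * (G.Ng K r 1)⁻¹) * (G.Hg K r t)⁻¹ := by group
    _ = _ := by
      rw [G.Ng_conj_X_self r hr, G.Hg_conj_X hr (G.ng_lt hr) ht, G.P_ng_right hr, G.P_self hr,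
        zpow_neg, zpow_ofNat, mul_neg]

theorem c_n_conj_y {r : ℕ} (hr : r < D.nroots) {t : K} (ht : t ≠ 0) (s : K) :
    c_nb D K r t * c_xb D K (ng D r) s * (c_nb D K r t)⁻¹ = c_xb D K r (-(t ^ 2 * s)) := by
  have h := G.c_n_conj_x hadj hr (neg_ne_zero.2 ht) (-(t ^ 2 * s))
  have e : -(((-t) ^ 2)⁻¹ * -(t ^ 2 * s)) = s := by
    rw [neg_sq, mul_neg, neg_neg, inv_mul_cancel_left₀ (pow_ne_zero _ ht)]
  rw [e, ← G.c_nb_inv hr] at h
  rw [← h]; group

theorem c_n_eq' {r : ℕ} (hr : r < D.nroots) {t : K} (ht : t ≠ 0) :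
    c_nb D K r t = c_xb D K (ng D r) (-t⁻¹) * c_xb D K r t * c_xb D K (ng D r) (-t⁻¹) := by
  have e1 := G.c_n_conj_x hadj hr ht t
  have e2 := G.c_n_conj_y hadj hr ht (-t⁻¹)
  rw [show -((t ^ 2)⁻¹ * t) = -t⁻¹ from by field_simp] at e1
  rw [show -(t ^ 2 * -t⁻¹) = t from by field_simp] at e2
  calc c_nb D K r t = c_nb D K r t *
        (c_xb D K r t * c_xb D K (ng D r) (-t⁻¹) * c_xb D K r t) * (c_nb D K r t)⁻¹ := by
        rw [← G.c_nb_eq hr]; group
    _ = (c_nb D K r t * c_xb D K r t * (c_nb D K r t)⁻¹) *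
        (c_nb D K r t * c_xb D K (ng D r) (-t⁻¹) * (c_nb D K r t)⁻¹) *
        (c_nb D K r t * c_xb D K r t * (c_nb D K r t)⁻¹) := by group
    _ = _ := by rw [e1, e2]

/-- The rank one identity behind the symbol relation. -/
theorem c_n_triple {r : ℕ} (hr : r < D.nroots) {t u : K} (ht : t ≠ 0) (hu : u ≠ 0)
    (h : t + u = 1) :
    c_nb D K r t * c_nb D K r (-(t * u)) * c_nb D K r u = c_nb D K r 1 := by
  have hy := G.ng_lt hr
  set x := c_xb D K r with hx
  set y := c_xb D K (ng D r) with hy'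
  set n := c_nb D K r with hn
  have ya : ∀ a b : K, y a * y b = y (a + b) := fun a b => c_xb_add hy a b
  have xy : ∀ v : K, v ≠ 0 → x v = y v⁻¹ * n v * y v⁻¹ := fun v hv => by
    have e : (y (-v⁻¹))⁻¹ = y v⁻¹ := by rw [hy', c_xb_inv hy, neg_neg]
    rw [hn, G.c_n_eq' hadj hr hv, ← hy', ← hx, ← e]
    group
  have htu : t * u ≠ 0 := mul_ne_zero ht hu
  have hsum : y t⁻¹ * n t * y (t⁻¹ + 0) = x t := by rw [add_zero, ← xy t ht]
  have emid : y (t⁻¹ + u⁻¹) = x (t * u) * n (-(t * u)) * x (t * u) := by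
    have e : t⁻¹ + u⁻¹ = -(-(t * u))⁻¹ := by
      field_simp
      linear_combination h
    rw [hn, G.c_nb_eq hr, ← hx, ← hy', e]
    have e2 : x (-(t * u)) = (x (t * u))⁻¹ := by rw [hx, c_xb_inv hr]
    rw [e2]; group
  have el : n t * x (t * u) = y (-(u / t)) * n t := by
    have := G.c_n_conj_x hadj hr ht (t * u)
    rw [show -((t ^ 2)⁻¹ * (t * u)) = -(u / t) from by field_simp] at this
    rw [hn, hx, hy', ← this]; group
  have er : x (t * u) * n u = n u * y (-(t / u)) := by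
    have := G.c_n_conj_x hadj hr (neg_ne_zero.2 hu) (t * u)
    rw [show -(((-u) ^ 2)⁻¹ * (t * u)) = -(t / u) from by field_simp, ← G.c_nb_inv hr, inv_inv]
      at this
    rw [hn, hx, hy', ← this]; group
  have e1 : x 1 = y 1 * (n t * n (-(t * u)) * n u) * y 1 := by
    have c1 : y 1 = y t⁻¹ * y (-(u / t)) := by
      rw [ya]; congr 1; field_simp; linear_combination h
    have c2 : y 1 = y (-(t / u)) * y u⁻¹ := by
      rw [ya]; congr 1; field_simp; linear_combination h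
    calc x 1 = x t * x u := by rw [hx, c_xb_add hr, h]
      _ = y t⁻¹ * n t * (y t⁻¹ * y u⁻¹) * n u * y u⁻¹ := by rw [xy t ht, xy u hu]; group
      _ = y t⁻¹ * (n t * x (t * u)) * n (-(t * u)) * (x (t * u) * n u) * y u⁻¹ := by
        rw [ya, emid]; group
      _ = y t⁻¹ * y (-(u / t)) * (n t * n (-(t * u)) * n u) * (y (-(t / u)) * y u⁻¹) := by
        rw [el, er]; group
      _ = _ := by rw [← c1, ← c2]
  rw [xy 1 one_ne_zero, inv_one] at e1
  exact (mul_left_cancel (mul_right_cancel e1)).symm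

theorem c_m_conj_n {r : ℕ} (hr : r < D.nroots) {v : K} (hv : v ≠ 0) :
    c_nb D K r 1 * c_nb D K r v * (c_nb D K r 1)⁻¹ = c_nb D K r v⁻¹ := by
  have e1 := G.c_n_conj_x hadj hr (one_ne_zero (α := K)) v
  have e2 := G.c_n_conj_y hadj hr (one_ne_zero (α := K)) (-v⁻¹)
  rw [show -(((1 : K) ^ 2)⁻¹ * v) = -v from by simp] at e1
  rw [show -((1 : K) ^ 2 * -v⁻¹) = v⁻¹ from by simp] at e2
  conv_rhs => rw [G.c_n_eq' hadj hr (inv_ne_zero hv), inv_inv, ← e1, ← e2]
  rw [G.c_nb_eq hr v]; group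

theorem c_h_conj_h {r : ℕ} (hr : r < D.nroots) {t u : K} (ht : t ≠ 0) :
    c_hb D K r t * c_hb D K r u * (c_hb D K r t)⁻¹ =
      c_hb D K r (t ^ 2 * u) * (c_hb D K r (t ^ 2))⁻¹ := by
  have hm : c_Mv D K (c_hb D K r t) := by
    rw [c_hb_eq]
    exact c_mv_mul (G.c_mv_nb hadj hr ht) (G.c_mv_nb hadj hr (neg_ne_zero.2 one_ne_zero))
  have hn : ∀ v : K, c_hb D K r t * c_nb D K r v * (c_hb D K r t)⁻¹ = c_nb D K r (t ^ 2 * v) := by
    intro v
    have e1 := G.c_mv_eq hm hr hr (u := v) (c := t ^ 2 * v) (by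
      rw [G.c_th_hb hr, G.Hg_conj_X hr hr ht, G.P_self hr, zpow_ofNat])
    have e2 := G.c_mv_eq hm (G.ng_lt hr) (G.ng_lt hr) (u := -v⁻¹) (c := -(t ^ 2 * v)⁻¹) (by
      rw [G.c_th_hb hr, G.Hg_conj_X hr (G.ng_lt hr) ht, G.P_ng_right hr, G.P_self hr, zpow_neg,
        zpow_ofNat, mul_inv, mul_neg])
    rw [G.c_nb_eq hr v, G.c_nb_eq hr (t ^ 2 * v), ← e1, ← e2]; group
  calc c_hb D K r t * c_hb D K r u * (c_hb D K r t)⁻¹
      = (c_hb D K r t * c_nb D K r u * (c_hb D K r t)⁻¹) *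
        (c_hb D K r t * c_nb D K r (-1) * (c_hb D K r t)⁻¹) := by rw [c_hb_eq r u]; group
    _ = c_nb D K r (t ^ 2 * u) * c_nb D K r (-(t ^ 2)) := by rw [hn, hn, mul_neg, mul_one]
    _ = _ := by
      rw [c_hb_eq, c_hb_eq, mul_inv_rev, ← G.c_nb_inv hr (t ^ 2)]
      group

variable [Finite K]

theorem c_hb_commute {r : ℕ} (hr : r < D.nroots) {t u : K} (ht : t ≠ 0) (hu : u ≠ 0) :
    Commute (c_hb D K r t) (c_hb D K r u) := by
  obtain ⟨g, hg⟩ := IsCyclic.exists_generator (α := Kˣ)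
  let φ : Kˣ →* GL D.Idx K := MonoidHom.mk' (fun v => G.Hg K r v) fun a b =>
    (G.Hg_mul hr a.ne_zero b.ne_zero).symm
  have key : ∀ v : K, v ≠ 0 → ∃ k : ℤ, ∃ z ∈ Subgroup.center (D.SteinbergCover K),
      c_hb D K r v = c_hb D K r g ^ k * z := by
    intro v hv
    obtain ⟨k, hk⟩ := Subgroup.mem_zpowers_iff.1 (hg (Units.mk0 v hv))
    refine ⟨k, (c_hb D K r g ^ k)⁻¹ * c_hb D K r v, (G.c_ker_le hadj ?_).2, by group⟩
    rw [map_mul, map_inv, map_zpow, G.c_th_hb hr, G.c_th_hb hr]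
    show (φ g ^ k)⁻¹ * φ (Units.mk0 v hv) = 1
    rw [← map_zpow, hk, inv_mul_cancel]
  obtain ⟨a, z, hz, e⟩ := key t ht
  obtain ⟨b, z', hz', e'⟩ := key u hu
  have c1 : ∀ x, Commute z x := fun x => (Subgroup.mem_center_iff.1 hz x).symm
  have c2 : ∀ x, Commute z' x := fun x => (Subgroup.mem_center_iff.1 hz' x).symm
  rw [e, e']
  exact ((Commute.zpow_zpow_self _ a b).mul_right (c2 _).symm).mul_left (c1 _)

theorem c_hb_sq_mul {r : ℕ} (hr : r < D.nroots) {s t : K} (hs : IsSquare s) (hs0 : s ≠ 0)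
    (ht : t ≠ 0) : c_hb D K r (s * t) = c_hb D K r s * c_hb D K r t := by
  obtain ⟨w, rfl⟩ := hs
  rw [← sq] at hs0 ⊢
  have hw : w ≠ 0 := fun e => hs0 (by simp [e])
  have h := G.c_h_conj_h hadj hr (u := t) hw
  rw [(G.c_hb_commute hadj hr hw ht).eq, mul_inv_cancel_right] at h
  rw [(G.c_hb_commute hadj hr hs0 ht).eq]
  exact (eq_mul_inv_iff_mul_eq.1 h).symm

omit [Finite K] in
theorem c_hb_one {r : ℕ} (hr : r < D.nroots) : c_hb D K r (1 : K) = 1 := by
  rw [c_hb_eq, ← G.c_nb_inv hr, mul_inv_cancel]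

theorem c_hb_symbol {r : ℕ} (hr : r < D.nroots) {a b : K} (ha : a ≠ 0) (hb : b ≠ 0)
    (h : a + b = 1) (hab : IsSquare (a * b)) :
    c_hb D K r (a * b) = c_hb D K r a * c_hb D K r b := by
  have hx : a * b ≠ 0 := mul_ne_zero ha hb
  set m := c_nb D K r (1 : K) with hm
  have en : ∀ v, c_nb D K r v = c_hb D K r v * m := fun v => by
    rw [c_hb_eq, ← G.c_nb_inv hr (1 : K), inv_mul_cancel_right]
  have hconj : ∀ v : K, v ≠ 0 → m * c_hb D K r v * m⁻¹ = c_hb D K r v⁻¹ := fun v hv => by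
    rw [c_hb_eq, c_hb_eq]
    calc m * (c_nb D K r v * c_nb D K r (-1)) * m⁻¹
        = (m * c_nb D K r v * m⁻¹) * (m * c_nb D K r (-1) * m⁻¹) := by group
      _ = _ := by
        rw [hm, G.c_m_conj_n hadj hr hv, G.c_m_conj_n hadj hr (neg_ne_zero.2 one_ne_zero), inv_neg,
          inv_one]
  have hm2 : m * m = (c_hb D K r (-1))⁻¹ := by
    rw [c_hb_eq, ← G.c_nb_inv hr, hm, mul_inv_rev, inv_inv]
  have hsi : IsSquare (a * b)⁻¹ := hab.inv
  have e0 := G.c_n_triple hadj hr ha hb h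
  rw [en a, en b, en (-(a * b)), ← hm] at e0
  have e1 : c_hb D K r a * (m * c_hb D K r (-(a * b)) * m⁻¹) * (m * m) * c_hb D K r b = 1 := by
    refine mul_right_cancel (b := m) ?_
    rw [one_mul]
    conv_rhs => rw [← e0]
    group
  have e2 : m * c_hb D K r (-(a * b)) * m⁻¹ * (m * m) = c_hb D K r (a * b)⁻¹ := by
    rw [hconj _ (neg_ne_zero.2 hx), hm2, show (-(a * b))⁻¹ = (a * b)⁻¹ * -1 from by
      rw [inv_neg, mul_neg, mul_one], G.c_hb_sq_mul hadj hr hsi (inv_ne_zero hx)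
      (neg_ne_zero.2 one_ne_zero), mul_inv_cancel_right]
  have e3 : c_hb D K r (a * b) * c_hb D K r (a * b)⁻¹ = 1 := by
    rw [← G.c_hb_sq_mul hadj hr hab hx (inv_ne_zero hx), mul_inv_cancel₀ hx, G.c_hb_one hadj hr]
  rw [mul_assoc (c_hb D K r a), e2,
    (G.c_hb_commute hadj hr ha (inv_ne_zero hx)).eq, mul_assoc] at e1
  rw [eq_inv_of_mul_eq_one_left e3, eq_inv_of_mul_eq_one_right e1]

/-- Relator family three in the cover. -/
theorem c_hb_mul {r : ℕ} (hr : r < D.nroots) {t u : K} (ht : t ≠ 0) (hu : u ≠ 0) :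
    c_hb D K r t * c_hb D K r u = c_hb D K r (t * u) := by
  by_cases h1 : IsSquare t
  · exact (G.c_hb_sq_mul hadj hr h1 ht hu).symm
  by_cases h2 : IsSquare u
  · rw [(G.c_hb_commute hadj hr ht hu).eq, mul_comm t u]
    exact (G.c_hb_sq_mul hadj hr h2 hu ht).symm
  obtain ⟨a, ha, hb⟩ := exists_nonsq_pair ⟨t, h1⟩
  have ha0 : a ≠ 0 := fun e => ha (e ▸ ⟨0, by simp⟩)
  set b := 1 - a with hbdef
  have hb0 : b ≠ 0 := fun e => hb (e ▸ ⟨0, by simp⟩)
  have hs : IsSquare (t / a) := by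
    rw [show t / a = (t * a) / (a * a) from by field_simp]
    exact (nonsq_mul h1 ha).div ⟨a, rfl⟩
  have hr' : IsSquare (u / b) := by
    rw [show u / b = (u * b) / (b * b) from by field_simp]
    exact (nonsq_mul h2 hb).div ⟨b, rfl⟩
  have hs0 : t / a ≠ 0 := div_ne_zero ht ha0
  have hr0 : u / b ≠ 0 := div_ne_zero hu hb0
  have hab := nonsq_mul ha hb
  have et : c_hb D K r t = c_hb D K r (t / a) * c_hb D K r a := by
    rw [← G.c_hb_sq_mul hadj hr hs hs0 ha0, div_mul_cancel₀ _ ha0]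
  have eu : c_hb D K r u = c_hb D K r (u / b) * c_hb D K r b := by
    rw [← G.c_hb_sq_mul hadj hr hr' hr0 hb0, div_mul_cancel₀ _ hb0]
  have e : t * u = (t / a * (u / b)) * (a * b) := by field_simp
  rw [e, G.c_hb_sq_mul hadj hr (hs.mul hr') (mul_ne_zero hs0 hr0) (mul_ne_zero ha0 hb0),
    G.c_hb_sq_mul hadj hr hs hs0 hr0, G.c_hb_symbol hadj hr ha0 hb0 (add_sub_cancel a 1) hab,
    et, eu]
  calc c_hb D K r (t / a) * c_hb D K r a * (c_hb D K r (u / b) * c_hb D K r b)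
      = c_hb D K r (t / a) * (c_hb D K r a * c_hb D K r (u / b)) * c_hb D K r b := by group
    _ = c_hb D K r (t / a) * (c_hb D K r (u / b) * c_hb D K r a) * c_hb D K r b := by
      rw [(G.c_hb_commute hadj hr ha0 hr0).eq]
    _ = _ := by group

/-- The two presentations agree over a finite field. -/
theorem c_exists_equiv : ∃ e : D.SteinbergCover K ≃* D.SteinbergGroup K,
    ∀ (r : ℕ) (t : K), e (D.scGen K r t) = D.stGen K r t := by
  set fS : Fin D.nroots × K → D.SteinbergGroup K := fun p => PresentedGroup.of p with hfS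
  set fC : Fin D.nroots × K → D.SteinbergCover K := fun p => PresentedGroup.of p with hfC
  have eS : FreeGroup.lift fS = PresentedGroup.mk (D.steinbergRels K) :=
    FreeGroup.ext_hom _ _ fun p => by rw [FreeGroup.lift_apply_of]; rfl
  have eC : FreeGroup.lift fC = PresentedGroup.mk (D.steinbergRelsAB K) :=
    FreeGroup.ext_hom _ _ fun p => by rw [FreeGroup.lift_apply_of]; rfl
  have h1 : ∀ g ∈ D.steinbergRelsAB K, FreeGroup.lift fS g = 1 := by
    intro g hg
    rw [eS]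
    exact PresentedGroup.one_of_mem (Or.inl hg)
  have h2 : ∀ g ∈ D.steinbergRels K, FreeGroup.lift fC g = 1 := by
    intro g hg
    rw [eC]
    rcases hg with hg | ⟨r, t, u, hr, ht, hu, rfl⟩
    · exact PresentedGroup.one_of_mem hg
    · simp only [ChevalleyDatum.stH, map_mul, map_inv, mul_inv_eq_one, c_mk_stWord]
      exact G.c_hb_mul hadj hr ht hu
  set f := PresentedGroup.toGroup h1
  set g := PresentedGroup.toGroup h2
  have hf : ∀ w, f (PresentedGroup.mk _ w) = PresentedGroup.mk _ w := fun w => by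
    have e : f.comp (PresentedGroup.mk (D.steinbergRelsAB K)) = FreeGroup.lift fS :=
      FreeGroup.ext_hom _ _ fun p => by
        rw [FreeGroup.lift_apply_of]; exact PresentedGroup.toGroup.of h1
    rw [← eS, ← e]; rfl
  have hg : ∀ w, g (PresentedGroup.mk _ w) = PresentedGroup.mk _ w := fun w => by
    have e : g.comp (PresentedGroup.mk (D.steinbergRels K)) = FreeGroup.lift fC :=
      FreeGroup.ext_hom _ _ fun p => by
        rw [FreeGroup.lift_apply_of]; exact PresentedGroup.toGroup.of h2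
    rw [← eC, ← e]; rfl
  have hgf : g.comp f = MonoidHom.id _ := PresentedGroup.ext fun p => by
    show g (f (PresentedGroup.mk _ (FreeGroup.of p))) = _
    rw [hf, hg]; rfl
  have hfg : f.comp g = MonoidHom.id _ := PresentedGroup.ext fun p => by
    show f (g (PresentedGroup.mk _ (FreeGroup.of p))) = _
    rw [hg, hf]; rfl
  exact ⟨MonoidHom.toMulEquiv f g hgf hfg, fun r t => hf _⟩

end Good

end Cfsg.Agent.Lib.Chev
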