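import Cfsg.Agent.Lib.Chev.Cov.Data

/-!
Lifts of the root elements to a central extension: from additivity and a one-step criterion to the
commutator relations.
-/

set_option autoImplicit false

namespace Cfsg.Agent.Lib.Chev

open Cfsg.Lie
open scoped Matrix commutatorElement

variable {D : ChevalleyDatum} {T : Tables} {K : Type*} [Field K]

/-- The subgroup generated by the lifts with roots in a set. -/
def liftSpan {P : Type*} [Group P] (D : ChevalleyDatum) (y : ℕ → K → P) (S : Set ℕ) : Subgroup P :=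
  Subgroup.closure {g | ∃ j u, j < D.nroots ∧ j ∈ S ∧ g = y j u}

theorem mem_liftSpan {P : Type*} [Group P] {y : ℕ → K → P} {S : Set ℕ} {j : ℕ} (hj : j < D.nroots)
    (hS : j ∈ S) (u : K) : y j u ∈ liftSpan D y S :=
  Subgroup.subset_closure ⟨j, u, hj, hS, rfl⟩

/-- The roots above a level in the positive system of a word. -/
def aboveSet (D : ChevalleyDatum) (T : Tables) (l : List ℕ) (k : ℕ) : Set ℕ :=
  {j | npos D ≤ wl T l j ∧ k ≤ wl T l j}

theorem mem_above {l : List ℕ} {k j : ℕ} (h1 : npos D ≤ wl T l j) (h2 : k ≤ wl T l j) :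
    j ∈ aboveSet D T l k := ⟨h1, h2⟩

/-- A central extension of the group with lifted root elements satisfying the step criterion. -/
structure LiftSys (D : ChevalleyDatum) (T : Tables) (G : Good D T) (K : Type*) [Field K]
    (P : Type*) [Group P] where
  /-- projection -/
  q : P →* GL D.Idx K
  /-- lifted root elements -/
  y : ℕ → K → P
  q_y : ∀ r, r < D.nroots → ∀ t, q (y r t) = G.X K r t
  add : ∀ r, r < D.nroots → ∀ t u, y r t * y r u = y r (t + u)
  step : ∀ S : Set ℕ, Set.InjOn q (liftSpan D y S) → ∀ r s, r < D.nroots → s < D.nroots → s ≠ r →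
    s ≠ ng D r → s ∈ S → ∀ t,
      (∀ u, q (y r t * y s u * (y r t)⁻¹) ∈ (liftSpan D y S).map q) →
      ∀ u, y r t * y s u * (y r t)⁻¹ ∈ liftSpan D y S

namespace LiftSys

variable {G : Good D T} {P : Type*} [Group P] (L : LiftSys D T G K P)
include L

theorem y_zero {r : ℕ} (hr : r < D.nroots) : L.y r 0 = 1 := by
  have := L.add r hr 0 0
  rw [add_zero] at this
  exact mul_eq_left.1 this

theorem y_inv {r : ℕ} (hr : r < D.nroots) (t : K) : (L.y r t)⁻¹ = L.y r (-t) :=
  inv_eq_of_mul_eq_one_right (by rw [L.add r hr, add_neg_cancel, L.y_zero hr])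

theorem inj_above {l : List ℕ} (hl : IsW D l) : ∀ (m k : ℕ), npos D ≤ k → k + m = D.nroots →
    Set.InjOn L.q (liftSpan D L.y (aboveSet D T l k)) := by
  intro m
  induction m with
  | zero =>
    intro k _ hkm
    have h0 : liftSpan D L.y (aboveSet D T l k) = ⊥ := by
      refine eq_bot_iff.2 ((Subgroup.closure_le _).2 ?_)
      rintro g ⟨j, u, hj, ⟨-, hkj⟩, rfl⟩
      have := G.wl_lt hl hj
      omega
    rw [h0]
    intro a ha b hb _
    rw [SetLike.mem_coe, Subgroup.mem_bot] at ha hb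
    rw [ha, hb]
  | succ m ih =>
    intro k hk hkm
    have ih' := ih (k + 1) (by omega) (by omega)
    set S := aboveSet D T l (k + 1) with hS
    set Q := liftSpan D L.y S with hQ
    set r := wl T l.reverse k with hr_def
    have hr : r < D.nroots := G.wl_lt hl.reverse (by omega)
    have hwr : wl T l r = k := G.wl_wl_reverse hl (by omega)
    have conj : ∀ t, ∀ x ∈ Q, L.y r t * x * (L.y r t)⁻¹ ∈ Q := by
      intro t x hx
      have hle : Q ≤ Q.comap (MulAut.conj (L.y r t)).toMonoidHom := by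
        refine (Subgroup.closure_le _).2 ?_
        rintro g ⟨j, u, hj, hjS, rfl⟩
        obtain ⟨hjp, hkj⟩ := hjS
        have h1 : j ≠ r := fun e => by rw [e, hwr] at hkj; omega
        have h2 : j ≠ ng D r := fun e => by
          rw [e, G.wl_ng hl hr, hwr] at hkj
          have := G.even_n; unfold ng at hkj; omega
        refine L.step S ih' r j hr hj h1 h2 ⟨hjp, hkj⟩ t (fun v => ?_) u
        rw [map_mul, map_mul, map_inv, L.q_y r hr, L.q_y j hj]
        have e : G.X K r t * G.X K j v * (G.X K r t)⁻¹ =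
            G.X K j v * G.wordG (Good.cw T r j (-t) v) := by
          rw [mul_assoc, G.X_inv, G.commAt r j hr hj h1 h2 (-t) v, mul_assoc (G.X K r (-t)),
            ← mul_assoc, G.X_add, add_neg_cancel, G.X_zero, one_mul]
        rw [e]
        refine mul_mem ⟨_, mem_liftSpan hj (mem_above (hjp) (hkj)) v, L.q_y j hj v⟩ (G.wordG_mem fun p hp => ?_)
        obtain ⟨⟨i, C, a, b⟩, hc, rfl⟩ := List.mem_map.1 hp
        obtain ⟨hi, h3, h4⟩ := G.terms_gt_wl hl hr hj (by omega) (by omega) hc
        exact ⟨_, mem_liftSpan hi (mem_above (by omega) (by omega)) _, L.q_y i hi _⟩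
      exact hle hx
    have decomp : ∀ g ∈ liftSpan D L.y (aboveSet D T l k), ∃ t, ∃ h ∈ Q, g = L.y r t * h := by
      intro g hg
      induction hg using Subgroup.closure_induction_left with
      | one => exact ⟨0, 1, one_mem _, by rw [L.y_zero hr, mul_one]⟩
      | mul_left x hx y _ ih2 =>
        obtain ⟨j, u, hj, ⟨hjp, hkj⟩, rfl⟩ := hx
        obtain ⟨t, h, hh, rfl⟩ := ih2
        rcases Nat.eq_or_lt_of_le hkj with he | hlt
        · obtain rfl : j = r := by rw [hr_def, he, G.wl_reverse_wl hl hj]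
          exact ⟨u + t, h, hh, by rw [← mul_assoc, L.add _ hr]⟩
        · refine ⟨t, (L.y r (-t) * L.y j u * (L.y r (-t))⁻¹) * h,
            mul_mem (conj _ _ (mem_liftSpan hj (mem_above (hjp) (hlt)) u)) hh, ?_⟩
          rw [← L.y_inv hr t]; group
      | inv_mul_cancel x hx y _ ih2 =>
        obtain ⟨j, u, hj, ⟨hjp, hkj⟩, rfl⟩ := hx
        obtain ⟨t, h, hh, rfl⟩ := ih2
        rw [L.y_inv hj]
        rcases Nat.eq_or_lt_of_le hkj with he | hlt
        · obtain rfl : j = r := by rw [hr_def, he, G.wl_reverse_wl hl hj]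
          exact ⟨-u + t, h, hh, by rw [← mul_assoc, L.add _ hr]⟩
        · refine ⟨t, (L.y r (-t) * L.y j (-u) * (L.y r (-t))⁻¹) * h,
            mul_mem (conj _ _ (mem_liftSpan hj (mem_above (hjp) (hlt)) _)) hh, ?_⟩
          rw [← L.y_inv hr t]; group
    have key : ∀ g ∈ liftSpan D L.y (aboveSet D T l k), L.q g = 1 → g = 1 := by
      intro g hg h1
      obtain ⟨t, h, hh, rfl⟩ := decomp g hg
      have h2 : G.nl K l * L.q h * (G.nl K l)⁻¹ ∈ G.tailU K (k + 1) := by
        have hle : Q ≤ (G.tailU K (k + 1)).comap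
            ((MulAut.conj (G.nl K l)).toMonoidHom.comp L.q) := by
          refine (Subgroup.closure_le _).2 ?_
          rintro g ⟨j, u, hj, ⟨hjp, hkj⟩, rfl⟩
          show G.nl K l * L.q (L.y j u) * (G.nl K l)⁻¹ ∈ G.tailU K (k + 1)
          rw [L.q_y j hj, G.nl_conj_X hl hj]
          exact G.X_mem_tail (G.wl_lt hl hj) hjp hkj _
        exact hle hh
      rw [map_mul, L.q_y r hr] at h1
      have ht : (el T l r : K) * t = 0 := by
        refine G.X_tail_eq_zero (show k < D.nroots by omega) hk ?_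
        have e : G.X K k ((el T l r : K) * t) = (G.nl K l * L.q h * (G.nl K l)⁻¹)⁻¹ := by
          rw [eq_inv_of_mul_eq_one_right (a := G.X K r t) h1]
          have := G.nl_conj_X (F := K) hl hr t
          rw [hwr] at this
          rw [← this]; group
        rw [e]
        exact inv_mem h2
      have ht0 : t = 0 := by
        rcases el_eq_or (T := T) l r with he | he <;> simpa [he] using ht
      subst ht0
      rw [G.X_zero, one_mul] at h1
      rw [L.y_zero hr, one_mul]
      exact ih' hh (one_mem _) (by rw [h1, map_one])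
    intro a ha b hb e
    exact inv_mul_eq_one.1 (key _ (mul_mem (inv_mem ha) hb)
      (by rw [map_mul, map_inv, e, inv_mul_cancel]))

/-- A word of lifts. -/
noncomputable def wordY (w : List (ℕ × K)) : P := (w.map fun p => L.y p.1 p.2).prod

theorem q_wordY {w : List (ℕ × K)} (h : ∀ p ∈ w, p.1 < D.nroots) :
    L.q (L.wordY w) = G.wordG w := by
  rw [wordY, map_list_prod, List.map_map, Good.wordG]
  exact congrArg List.prod (List.map_congr_left fun p hp => L.q_y p.1 (h p hp) p.2)

omit L in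
theorem exists_common {G : Good D T} {r s : ℕ} (hr : r < D.nroots) (hs : s < D.nroots)
    (h1 : s ≠ r) (h2 : s ≠ ng D r) :
    ∃ l, IsW D l ∧ npos D ≤ wl T l r ∧ npos D ≤ wl T l s := by
  obtain ⟨l, hl, i, hi, he⟩ := G.exists_frame r hr
  by_cases hsp : npos D ≤ wl T l s
  · exact ⟨l, hl, he ▸ G.sim_pos hi, hsp⟩
  obtain ⟨l0, hl0, -, h0⟩ := G.exists_longest
  have hl' : IsW D (i :: l) := (isW_single hi).append hl
  have hne : wl T l s ≠ sim D i := fun e => h1 (G.wl_injective hl hs hr (e.trans he.symm))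
  have hne' : wl T l s ≠ ng D (sim D i) := fun e =>
    h2 (G.wl_injective hl hs (G.ng_lt hr) (by rw [G.wl_ng hl hr, he, e]))
  have e1 : wl T (i :: l) r < npos D := by
    show T.w i (wl T l r) < _
    rw [he, G.w_sim hi]
    have := G.even_n; have := G.sim_pos hi; unfold ng; omega
  have e2 : wl T (i :: l) s < npos D := by
    show T.w i (wl T l s) < _
    by_contra hcon
    exact hsp ((G.side_w hl hi hs hne hne').2.2.1 (not_lt.1 hcon))
  refine ⟨l0 ++ (i :: l), hl0.append hl', ?_, ?_⟩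
  · rw [wl_append]; exact h0 _ (G.wl_lt hl' hr) e1
  · rw [wl_append]; exact h0 _ (G.wl_lt hl' hs) e2

theorem comm {r s : ℕ} (hr : r < D.nroots) (hs : s < D.nroots) (h1 : s ≠ r) (h2 : s ≠ ng D r)
    (t u : K) :
    L.y s u * L.y r t = L.y r t * L.y s u * L.wordY (Good.cw T r s t u) := by
  obtain ⟨l, hl, hrp, hsp⟩ := exists_common (G := G) hr hs h1 h2
  have hQ := L.inj_above hl (npos D) (npos D) le_rfl (by have := G.even_n; omega)
  have my : ∀ j v, j < D.nroots → npos D ≤ wl T l j →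
      L.y j v ∈ liftSpan D L.y (aboveSet D T l (npos D)) :=
    fun j v hj hp => mem_liftSpan hj (mem_above (hp) (hp)) v
  have hw : ∀ p ∈ Good.cw T r s t u, p.1 < D.nroots ∧ npos D ≤ wl T l p.1 := by
    intro p hp
    obtain ⟨⟨i, C, a, b⟩, hc, rfl⟩ := List.mem_map.1 hp
    obtain ⟨hi, h3, h4⟩ := G.terms_gt_wl hl hr hs hrp hsp hc
    exact ⟨hi, le_of_lt (lt_of_le_of_lt hrp h3)⟩
  refine hQ (mul_mem (my s u hs hsp) (my r t hr hrp))
    (mul_mem (mul_mem (my r t hr hrp) (my s u hs hsp)) (list_prod_mem fun x hx => ?_)) ?_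
  · obtain ⟨p, hp, rfl⟩ := List.mem_map.1 hx
    exact my _ _ (hw p hp).1 (hw p hp).2
  · rw [map_mul, map_mul, map_mul, L.q_y r hr, L.q_y s hs, L.q_wordY fun p hp => (hw p hp).1]
    exact G.commAt r s hr hs h1 h2 t u

theorem exists_hom : ∃ τ : D.SteinbergCover K →* P, L.q.comp τ = G.c_th K := by
  set f : Fin D.nroots × K → P := fun p => L.y p.1 p.2 with hf
  have hX : ∀ r t, r < D.nroots → FreeGroup.lift f (D.stX r t) = L.y r t := by
    intro r t hr
    simp [ChevalleyDatum.stX, hr, hf]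
  have hW : ∀ w : List (ℕ × K), (∀ p ∈ w, p.1 < D.nroots) →
      FreeGroup.lift f (D.stWord w) = L.wordY w := by
    intro w hw
    rw [ChevalleyDatum.stWord, map_list_prod, List.map_map, wordY]
    exact congrArg List.prod (List.map_congr_left fun p hp => hX p.1 p.2 (hw p hp))
  have hrel : ∀ g ∈ D.steinbergRelsAB K, FreeGroup.lift f g = 1 := by
    rintro g (⟨r, t, u, hr, rfl⟩ | ⟨r, s, t, u, hr, hs, h1, h2, rfl⟩)
    · simp only [map_mul, map_inv, hX _ _ hr, L.add r hr, mul_inv_cancel]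
    · rw [G.neg_eq hr] at h2
      have hw : ∀ p ∈ D.commWord K r s t u, p.1 < D.nroots := by
        intro p hp
        rw [G.commWord_eq hr hs] at hp
        obtain ⟨⟨k, C, a, b⟩, hc, rfl⟩ := List.mem_map.1 hp
        exact (G.mem_terms hr hs hc).1
      simp only [map_mul, map_inv, hX _ _ hr, hX _ _ hs, hW _ hw]
      rw [mul_inv_eq_one, G.commWord_eq hr hs, mul_assoc _ (L.y s u), L.comm hr hs h1 h2 t u]
      group
  refine ⟨PresentedGroup.toGroup hrel, PresentedGroup.ext fun p => ?_⟩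
  rw [MonoidHom.comp_apply, PresentedGroup.toGroup.of, hf, L.q_y _ p.1.isLt]
  have e : PresentedGroup.of (rels := D.steinbergRelsAB K) p = c_xb D K p.1.val p.2 := by
    rw [c_xb, ChevalleyDatum.scGen, ChevalleyDatum.stX, dif_pos p.1.isLt]; rfl
  rw [e, G.c_th_xb p.1.isLt]

end LiftSys

/-- Two lifts of a perfect group into a central extension agree. -/
theorem hom_eq_of_perfect {A B C : Type*} [Group A] [Group B] [Group C]
    (hA : commutator A = ⊤) (π : B →* C) (hπ : π.ker ≤ Subgroup.center B) {τ τ' : A →* B}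
    (h : π.comp τ = π.comp τ') : τ = τ' := by
  have hd : ∀ a, ∃ z ∈ Subgroup.center B, τ a = z * τ' a := fun a =>
    ⟨τ a * (τ' a)⁻¹, hπ (by
      rw [MonoidHom.mem_ker, map_mul, map_inv, show π (τ a) = π (τ' a) from congrFun
        (congrArg DFunLike.coe h) a, mul_inv_cancel]), by group⟩
  have hle : commutator A ≤ MonoidHom.eqLocus τ τ' := by
    rw [commutator_eq_closure]
    refine (Subgroup.closure_le _).2 ?_
    rintro x ⟨a, b, rfl⟩
    obtain ⟨z, hz, ea⟩ := hd a
    obtain ⟨w, hw, eb⟩ := hd b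
    show τ ⁅a, b⁆ = τ' ⁅a, b⁆
    rw [map_commutatorElement, map_commutatorElement, ea, eb, commutatorElement_def,
      commutatorElement_def]
    have cz : ∀ g, g * z = z * g := Subgroup.mem_center_iff.1 hz
    have cw : ∀ g, g * w = w * g := Subgroup.mem_center_iff.1 hw
    calc z * τ' a * (w * τ' b) * (z * τ' a)⁻¹ * (w * τ' b)⁻¹
        = z * (τ' a * w) * τ' b * (τ' a)⁻¹ * z⁻¹ * (τ' b)⁻¹ * w⁻¹ := by group
      _ = (z * w) * (τ' a * τ' b * (τ' a)⁻¹) * z⁻¹ * (τ' b)⁻¹ * w⁻¹ := by rw [cw (τ' a)]; group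
      _ = w * z * (τ' a * τ' b * (τ' a)⁻¹) * z⁻¹ * (τ' b)⁻¹ * w⁻¹ := by rw [cw z]
      _ = w * ((τ' a * τ' b * (τ' a)⁻¹) * z) * z⁻¹ * (τ' b)⁻¹ * w⁻¹ := by rw [cz (τ' a * τ' b * (τ' a)⁻¹)]; group
      _ = w * (τ' a * τ' b * (τ' a)⁻¹ * (τ' b)⁻¹) * w⁻¹ := by group
      _ = _ := by
        rw [← cw (τ' a * τ' b * (τ' a)⁻¹ * (τ' b)⁻¹), mul_inv_cancel_right]
  ext a
  exact hle (hA ▸ Subgroup.mem_top a)

end Cfsg.Agent.Lib.Chev
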