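import Cfsg.Agent.Lib.Chev.Cov.LiftTorus

/-!
Lifts in characteristic `p` to central extensions by torsion groups without elements of order `p`.
-/

set_option autoImplicit false

namespace Cfsg.Agent.Lib.Chev

open Cfsg.Lie
open scoped Matrix

variable {D : ChevalleyDatum} {T : Tables} {K : Type*} [Field K]

namespace Good

variable (G : Good D T)
include G
variable {P : Type*} [Group P] (q : P →* GL D.Idx K)

theorem X_pow_char {p : ℕ} [CharP K p] (r : ℕ) (t : K) : (G.X K r t) ^ p = 1 := by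
  have h : ∀ n : ℕ, (G.X K r t) ^ n = G.X K r ((n : K) * t) := by
    intro n
    induction n with
    | zero => rw [pow_zero, Nat.cast_zero, zero_mul, G.X_zero]
    | succ n ih => rw [pow_succ, ih, G.X_add, Nat.cast_succ, add_mul, one_mul]
  rw [h, CharP.cast_eq_zero, zero_mul, G.X_zero]

theorem exists_lift_p {p : ℕ} [Fact p.Prime] [CharP K p] (hq : q.ker ≤ Subgroup.center P)
    (hr : D.group K ≤ q.range) (htf : ∀ z ∈ q.ker, z ^ p = 1 → z = 1)
    (hfin : ∀ z ∈ q.ker, IsOfFinOrder z) :
    ∃ τ : D.SteinbergCover K →* P, q.comp τ = G.c_th K := by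
  have hp : p.Prime := Fact.out
  have hroot : ∀ z ∈ q.ker, ∃ w ∈ q.ker, w ^ p = z := by
    intro z hz
    have hcop : p.Coprime (orderOf z) := by
      refine hp.coprime_iff_not_dvd.2 fun hdvd => ?_
      obtain ⟨k, hk⟩ := hdvd
      have hk0 : 0 < k := by
        rcases Nat.eq_zero_or_pos k with rfl | h
        · exact absurd (hfin z hz).orderOf_pos (by rw [hk, mul_zero]; exact lt_irrefl 0)
        · exact h
      have h1 := htf _ (pow_mem hz k) (by rw [← pow_mul, mul_comm, ← hk, pow_orderOf_eq_one])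
      have h2 := Nat.le_of_dvd hk0 (orderOf_dvd_of_pow_eq_one h1)
      rw [hk] at h2
      have := Nat.mul_le_mul_right k hp.two_le
      omega
    obtain ⟨m, hm⟩ := exists_pow_eq_self_of_coprime hcop
    exact ⟨z ^ m, pow_mem hz m, by rw [← pow_mul, mul_comm, pow_mul, hm]⟩
  have uniq : ∀ a b : P, a ^ p = 1 → b ^ p = 1 → q a = q b → a = b := by
    intro a b ha hb hab
    have hz : a * b⁻¹ ∈ q.ker := by
      rw [MonoidHom.mem_ker, map_mul, map_inv, hab, mul_inv_cancel]
    have hc : Commute (a * b⁻¹) b := (Subgroup.mem_center_iff.1 (hq hz) b).symm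
    have := hc.mul_pow p
    rw [inv_mul_cancel_right, ha, hb, mul_one] at this
    exact mul_inv_eq_one.1 (htf _ hz this.symm)
  have ex : ∀ r, r < D.nroots → ∀ t, ∃ y : P, q y = G.X K r t ∧ y ^ p = 1 := by
    intro r hr' t
    obtain ⟨a, ha⟩ := hr (G.X_mem_group hr' t)
    have hz : a ^ p ∈ q.ker := by rw [MonoidHom.mem_ker, map_pow, ha, G.X_pow_char]
    obtain ⟨w, hw, hwp⟩ := hroot _ hz
    refine ⟨a * w⁻¹, by rw [map_mul, map_inv, MonoidHom.mem_ker.1 hw, inv_one, mul_one, ha], ?_⟩
    have hc : Commute a w := Subgroup.mem_center_iff.1 (hq hw) a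
    rw [hc.inv_right.mul_pow, inv_pow, hwp, mul_inv_cancel]
  choose! y hy hyp using ex
  have conj_pow : ∀ a b : P, b ^ p = 1 → (a * b * a⁻¹) ^ p = 1 := fun a b hb => by
    rw [conj_pow, hb, mul_one, mul_inv_cancel]
  refine LiftSys.exists_hom (G := G) ⟨q, y, hy, ?_, ?_⟩
  · intro r hr' t u
    have hc : Commute (y r t) (y r u) := by
      have := uniq _ _ (conj_pow (y r t) (y r u) (hyp r hr' u)) (hyp r hr' u) (by
        rw [map_mul, map_mul, map_inv, hy r hr', hy r hr', G.X_add, add_comm, ← G.X_add,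
          mul_inv_cancel_right])
      exact mul_inv_eq_iff_eq_mul.1 this
    refine uniq _ _ ?_ (hyp r hr' _) ?_
    · rw [hc.mul_pow, hyp r hr', hyp r hr', mul_one]
    · rw [map_mul, hy r hr', hy r hr', hy r hr', G.X_add]
  · intro S hinj r s hr' hs _ _ _ t himg u
    obtain ⟨e, he, hqe⟩ := himg u
    have hep : e ^ p = 1 := hinj (pow_mem he p) (one_mem _) (by
      rw [map_pow, hqe, map_one, ← map_pow, conj_pow _ _ (hyp s hs u), map_one])
    rw [uniq _ e (conj_pow _ _ (hyp s hs u)) hep hqe.symm]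
    exact he

end Good

end Cfsg.Agent.Lib.Chev
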