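import Cfsg.Agent.Lib.Chev.Cov.Lift

/-!
Lifts by commutators with a torus element, for a field with more than four elements.
-/

set_option autoImplicit false

namespace Cfsg.Agent.Lib.Chev

open Cfsg.Lie
open scoped Matrix commutatorElement

variable {D : ChevalleyDatum} {T : Tables} {K : Type*} [Field K]

/-- The Cartan pairing with a fundamental root, evaluated from the tables. -/
def pI (D : ChevalleyDatum) (T : Tables) (r s : ℕ) : ℤ :=
  isum D.rank fun i => T.c r i * T.A i s

/-- The pairings needed for the torus separation, checked at the fundamental roots. -/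
def chkSep (D : ChevalleyDatum) (T : Tables) : Bool :=
  allLt D.rank fun i => allLt D.nroots fun s => s == sim D i || s == ng D (sim D i) ||
    (pI D T (sim D i) s == 0 && pI D T s (sim D i) == 0) ||
      (decide (1 ≤ 4 - pI D T (sim D i) s * pI D T s (sim D i)) &&
        decide (4 - pI D T (sim D i) s * pI D T s (sim D i) ≤ 3))

/-- Every fundamental root pairs to one with some root, or is a term of a commutator of roots
commuting with it. -/
def chkSelf (D : ChevalleyDatum) (T : Tables) : Bool :=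
  allLt D.rank fun i =>
    let r := sim D i
    let ok := fun k => k != r && k != ng D r && (T.terms r k).isEmpty
    anyLt D.nroots (fun p => pI D T p r == 1) || anyLt D.nroots fun a => ok a && anyLt D.nroots fun b => ok b && b != a && b != ng D a &&
      (T.terms a b).any fun c => c.1 == r && decide (c.2.1 * c.2.1 = 1) && c.2.2.2 == 1 &&
        (T.terms a b).all (fun e => e == c || ok e.1) &&
        ((T.terms a b).filter fun e => e == c).length == 1

theorem exists_good_scalar (hK : ∃ s : Finset K, 4 < s.card) :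
    ∃ k : K, k ≠ 0 ∧ k ≠ 1 ∧ k * k - k + 1 ≠ 0 := by
  classical
  obtain ⟨s, hs⟩ := hK
  by_contra hcon
  push Not at hcon
  set f : Polynomial K := Polynomial.X ^ 2 - Polynomial.X + 1 with hf
  have hf2 : f.natDegree = 2 := by rw [hf]; compute_degree!
  have hf0 : f ≠ 0 := fun e => by rw [e] at hf2; simp at hf2
  have hsub : s ⊆ insert 0 (insert 1 f.roots.toFinset) := fun v _ => by
    by_cases h0 : v = 0
    · simp [h0]
    by_cases h1 : v = 1
    · simp [h1]
    have h2 := hcon v h0 h1
    have hv : v ∈ f.roots.toFinset :=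
      Multiset.mem_toFinset.2 ((Polynomial.mem_roots hf0).2 (by simp [Polynomial.IsRoot, hf, sq, h2]))
    simp [hv]
  have := Finset.card_le_card hsub
  have h4 := Finset.card_insert_le (0 : K) (insert 1 f.roots.toFinset)
  have h7 := Finset.card_insert_le (1 : K) f.roots.toFinset
  have h5 := Multiset.toFinset_card_le f.roots
  have h6 := f.card_roots'
  omega

theorem exists_pow_ne_one (hK : ∃ s : Finset K, 4 < s.card) {d : ℕ} (h1 : 1 ≤ d) (h3 : d ≤ 3) :
    ∃ v : K, v ≠ 0 ∧ v ^ d ≠ 1 := by
  classical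
  obtain ⟨s, hs⟩ := hK
  by_contra hcon
  push Not at hcon
  have hsub : s ⊆ insert 0 (Polynomial.nthRoots d (1 : K)).toFinset := fun v _ => by
    by_cases hv : v = 0
    · simp [hv]
    · simp [Polynomial.mem_nthRoots (by omega : 0 < d), hcon v hv]
  have := Finset.card_le_card hsub
  have h4 := Finset.card_insert_le (0 : K) (Polynomial.nthRoots d (1 : K)).toFinset
  have h5 := Multiset.toFinset_card_le (Polynomial.nthRoots d (1 : K))
  have h6 := Polynomial.card_nthRoots d (1 : K)
  omega

namespace Good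

variable (G : Good D T)
include G

theorem exists_separating (hK : ∃ s : Finset K, 4 < s.card) (hsep : chkSep D T = true) :
    ∀ r, r < D.nroots → ∀ s, s < D.nroots → s ≠ r → s ≠ ng D r →
      ∃ g ∈ D.diagonalSubgroup K, ∃ κ : K, κ ≠ 1 ∧ (∀ t, g * G.X K r t * g⁻¹ = G.X K r t) ∧
        ∀ u, g * G.X K s u * g⁻¹ = G.X K s (κ * u) := by
  refine G.root_induction ?_ ?_
  · intro i hi s hs hne hne'
    have hr := G.sim_lt hi
    have hc := allLt_eq_true (allLt_eq_true hsep i hi) s hs
    simp only [pI, isum_eq, Bool.or_eq_true, Bool.and_eq_true, beq_iff_eq, decide_eq_true_eq] at hc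
    rw [show (∑ j ∈ Finset.range D.rank, T.c (sim D i) j * T.A j s) = P D T (sim D i) s from rfl,
      show (∑ j ∈ Finset.range D.rank, T.c s j * T.A j (sim D i)) = P D T s (sim D i) from rfl] at hc
    rcases hc with ((hc | hc) | ⟨-, hc⟩) | ⟨hd1, hd3⟩
    · exact absurd hc hne
    · exact absurd hc hne'
    · obtain ⟨v, hv, hv2⟩ := exists_pow_ne_one hK (d := 2) (by norm_num) (by norm_num)
      refine ⟨G.Hg K s v, G.Hg_mem hs hv, v ^ 2, hv2, fun t => ?_, fun u => ?_⟩
      · rw [G.Hg_conj_X hs hr hv, hc, zpow_zero, one_mul]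
      · rw [G.Hg_conj_X hs hs hv, G.P_self hs, zpow_ofNat]
    · set a := P D T (sim D i) s with ha
      set b := P D T s (sim D i) with hb
      obtain ⟨d, hd⟩ : ∃ d : ℕ, (d : ℤ) = 4 - a * b := ⟨(4 - a * b).toNat, by omega⟩
      obtain ⟨v, hv, hvd⟩ := exists_pow_ne_one hK (d := d) (by omega) (by omega)
      refine ⟨G.Hg K s (v ^ (2 : ℤ)) * G.Hg K (sim D i) (v ^ (-b)),
        mul_mem (G.Hg_mem hs (zpow_ne_zero _ hv)) (G.Hg_mem hr (zpow_ne_zero _ hv)),
        v ^ d, hvd, fun t => ?_, fun u => ?_⟩
      · calc _ = G.Hg K s (v ^ (2 : ℤ)) * (G.Hg K (sim D i) (v ^ (-b)) * G.X K (sim D i) t *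
              (G.Hg K (sim D i) (v ^ (-b)))⁻¹) * (G.Hg K s (v ^ (2 : ℤ)))⁻¹ := by group
          _ = _ := by
            rw [G.Hg_conj_X hr hr (zpow_ne_zero _ hv), G.Hg_conj_X hs hr (zpow_ne_zero _ hv),
              G.P_self hr, ← hb, ← zpow_mul, ← zpow_mul, ← mul_assoc, ← zpow_add₀ hv,
              show 2 * b + -b * 2 = 0 by ring, zpow_zero, one_mul]
      · calc _ = G.Hg K s (v ^ (2 : ℤ)) * (G.Hg K (sim D i) (v ^ (-b)) * G.X K s u *
              (G.Hg K (sim D i) (v ^ (-b)))⁻¹) * (G.Hg K s (v ^ (2 : ℤ)))⁻¹ := by group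
          _ = _ := by
            rw [G.Hg_conj_X hr hs (zpow_ne_zero _ hv), G.Hg_conj_X hs hs (zpow_ne_zero _ hv),
              G.P_self hs, ← ha, ← zpow_mul, ← zpow_mul, ← mul_assoc, ← zpow_add₀ hv,
              show 2 * 2 + -b * a = (d : ℤ) by rw [hd]; ring, zpow_natCast]
  · intro i r hi hr ih s hs hne hne'
    have hs' := G.w_lt hi hs
    obtain ⟨g, hg, κ, hκ, h1, h2⟩ := ih (T.w i s) hs'
      (fun e => hne (by rw [← G.w_w hi hs, e]))
      (fun e => hne' (by rw [← G.w_w hi hs, e, G.w_ng hi hr]))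
    refine ⟨G.ni K i * g * (G.ni K i)⁻¹,
      (Subgroup.mem_normalizer_iff.1 (G.ni_normalizer hi) g).1 hg, κ, hκ, fun t => ?_, fun u => ?_⟩
    · have e : G.X K (T.w i r) t =
          G.ni K i * G.X K r ((T.eta i r : K) * t) * (G.ni K i)⁻¹ := by
        rw [G.ni_conj_X hi hr, ← mul_assoc, ← Int.cast_mul, Tables.eta_mul_self, Int.cast_one,
          one_mul]
      conv_rhs => rw [e, ← h1]
      rw [e]; group
    · have e : ∀ v, G.X K s v =
          G.ni K i * G.X K (T.w i s) ((T.eta i (T.w i s) : K) * v) * (G.ni K i)⁻¹ := fun v => by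
        rw [G.ni_conj_X hi hs', G.w_w hi hs, ← mul_assoc, ← Int.cast_mul, Tables.eta_mul_self,
          Int.cast_one, one_mul]
      conv_rhs => rw [e, mul_left_comm, ← h2]
      rw [e]; group

variable {P : Type*} [Group P] (q : P →* GL D.Idx K)

omit G in
/-- The commutator of two preimages depends only on the images. -/
theorem comm_eq_of_q {q : P →* GL D.Idx K} (hq : q.ker ≤ Subgroup.center P) {a a' b b' : P}
    (ha : q a = q a') (hb : q b = q b') : ⁅a, b⁆ = ⁅a', b'⁆ := by
  obtain ⟨z, hz, rfl⟩ : ∃ z ∈ Subgroup.center P, a = z * a' :=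
    ⟨a * a'⁻¹, hq (by rw [MonoidHom.mem_ker, map_mul, map_inv, ha, mul_inv_cancel]), by group⟩
  obtain ⟨w, hw, rfl⟩ : ∃ w ∈ Subgroup.center P, b = w * b' :=
    ⟨b * b'⁻¹, hq (by rw [MonoidHom.mem_ker, map_mul, map_inv, hb, mul_inv_cancel]), by group⟩
  have cz : ∀ g, g * z = z * g := Subgroup.mem_center_iff.1 hz
  have cw : ∀ g, g * w = w * g := Subgroup.mem_center_iff.1 hw
  rw [commutatorElement_def, commutatorElement_def]
  calc z * a' * (w * b') * (z * a')⁻¹ * (w * b')⁻¹
      = z * (a' * w) * b' * a'⁻¹ * z⁻¹ * b'⁻¹ * w⁻¹ := by group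
    _ = (z * w) * (a' * b' * a'⁻¹) * z⁻¹ * b'⁻¹ * w⁻¹ := by rw [cw a']; group
    _ = w * z * (a' * b' * a'⁻¹) * z⁻¹ * b'⁻¹ * w⁻¹ := by rw [cw z]
    _ = w * ((a' * b' * a'⁻¹) * z) * z⁻¹ * b'⁻¹ * w⁻¹ := by rw [cz (a' * b' * a'⁻¹)]; group
    _ = w * (a' * b' * a'⁻¹ * b'⁻¹) * w⁻¹ := by group
    _ = _ := by rw [← cw (a' * b' * a'⁻¹ * b'⁻¹), mul_inv_cancel_right]

/-- A lift of the root elements to a central extension. -/
theorem exists_lift_torus (hK : ∃ s : Finset K, 4 < s.card) (hsep : chkSep D T = true)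
    (hself : chkSelf D T = true) (hq : q.ker ≤ Subgroup.center P) (hr : D.group K ≤ q.range) :
    ∃ τ : D.SteinbergCover K →* P, q.comp τ = G.c_th K := by
  obtain ⟨sec, hsec⟩ : ∃ sec : GL D.Idx K → P, ∀ g ∈ D.group K, q (sec g) = g := by
    refine ⟨fun g => Function.invFun q g, fun g hg => ?_⟩
    obtain ⟨a, ha⟩ := hr hg
    exact Function.invFun_eq ⟨a, ha⟩
  have hX : ∀ {r}, r < D.nroots → ∀ t, q (sec (G.X K r t)) = G.X K r t := fun hr t =>
    hsec _ (G.X_mem_group hr t)
  obtain ⟨c, hc, hc2⟩ := exists_pow_ne_one hK (d := 2) (by norm_num) (by norm_num)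
  have hw : c ^ 2 - 1 ≠ 0 := sub_ne_zero.2 hc2
  set y : ℕ → K → P := fun r t => ⁅sec (G.Hg K r c), sec (G.X K r (t / (c ^ 2 - 1)))⁆ with hy
  have qy : ∀ r, r < D.nroots → ∀ t, q (y r t) = G.X K r t := by
    intro r hr t
    rw [hy, map_commutatorElement, hX hr, hsec _ (G.Hg_mem_group hr c), commutatorElement_def,
      G.Hg_conj_X hr hr hc, G.P_self hr, G.X_inv, G.X_add, zpow_ofNat]
    congr 1
    field_simp
    ring
  have fixc : ∀ {a b a' b' : P}, q a = q a' → q b = q b' → ⁅a, b⁆ = ⁅a', b'⁆ := fun h h' =>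
    comm_eq_of_q hq h h'
  have equiv : ∀ g ∈ D.diagonalSubgroup K, ∀ r, r < D.nroots → ∀ κ : K,
      (∀ t, g * G.X K r t * g⁻¹ = G.X K r (κ * t)) → ∀ h : P, q h = g →
      ∀ t, h * y r t * h⁻¹ = y r (κ * t) := by
    intro g hg r hr κ hκ h hh t
    rw [hy]
    have e : h * ⁅sec (G.Hg K r c), sec (G.X K r (t / (c ^ 2 - 1)))⁆ * h⁻¹ =
        ⁅h * sec (G.Hg K r c) * h⁻¹, h * sec (G.X K r (t / (c ^ 2 - 1))) * h⁻¹⁆ := by
      rw [commutatorElement_def, commutatorElement_def]; group
    rw [e]
    refine fixc ?_ ?_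
    · rw [map_mul, map_mul, map_inv, hh, hsec _ (G.Hg_mem_group hr c),
        G.diagonal_comm hg (G.Hg_mem hr hc), mul_inv_cancel_right]
    · rw [map_mul, map_mul, map_inv, hh, hX hr, hX hr, hκ, mul_div_assoc]
  -- preimages of commuting root elements of independent roots commute
  have phase1 : ∀ r s, r < D.nroots → s < D.nroots → s ≠ r → s ≠ ng D r → T.terms r s = [] →
      ∀ a b : P, ∀ t u, q a = G.X K r t → q b = G.X K s u → Commute a b := by
    intro r s hr hs h1 h2 hT a b t u hqa hqb
    obtain ⟨g, hg, κ, hκ, f1, f2⟩ := G.exists_separating hK hsep r hr s hs h1 h2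
    have hcomm : ∀ t u : K, G.X K r t * G.X K s u * (G.X K r t)⁻¹ * (G.X K s u)⁻¹ = 1 := fun t u => by
      have h' := G.commAt r s hr hs h1 h2 t u
      rw [show G.wordG (cw T r s t u) = 1 from by simp [cw, hT, Good.wordG], mul_one] at h'
      rw [← h', mul_inv_cancel_right, mul_inv_cancel]
    set z : K → P := fun v => ⁅a, sec (G.X K s v)⁆ with hz
    have zc : ∀ v, z v ∈ Subgroup.center P := fun v => hq (by
      rw [MonoidHom.mem_ker, hz, map_commutatorElement, hqa, hX hs, commutatorElement_def]
      exact hcomm t v)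
    have zadd : ∀ v w, z (v + w) = z v * z w := by
      intro v w
      have e : ⁅a, sec (G.X K s v) * sec (G.X K s w)⁆ = z (v + w) :=
        fixc rfl (by rw [map_mul, hX hs, hX hs, hX hs, G.X_add])
      rw [← e, hz]
      simp only [commutatorElement_def]
      have h5 := Subgroup.mem_center_iff.1 (zc w) (sec (G.X K s v))
      simp only [hz, commutatorElement_def] at h5
      calc a * (sec (G.X K s v) * sec (G.X K s w)) * a⁻¹ * (sec (G.X K s v) * sec (G.X K s w))⁻¹
          = a * sec (G.X K s v) * a⁻¹ *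
            (a * sec (G.X K s w) * a⁻¹ * (sec (G.X K s w))⁻¹) * (sec (G.X K s v))⁻¹ := by group
        _ = a * sec (G.X K s v) * a⁻¹ * (sec (G.X K s v))⁻¹ *
            (sec (G.X K s v) * (a * sec (G.X K s w) * a⁻¹ * (sec (G.X K s w))⁻¹)) *
              (sec (G.X K s v))⁻¹ := by group
        _ = _ := by rw [h5]; group
    have hgG : g ∈ D.group K := G.borel_le_group (Subgroup.mem_sup_right hg)
    have zinv : ∀ v, z (κ * v) = z v := by
      intro v
      have h5 := Subgroup.mem_center_iff.1 (zc v) (sec g)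
      have e : sec g * z v * (sec g)⁻¹ = z (κ * v) := by
        rw [hz]
        have e' : sec g * ⁅a, sec (G.X K s v)⁆ * (sec g)⁻¹ =
            ⁅sec g * a * (sec g)⁻¹, sec g * sec (G.X K s v) * (sec g)⁻¹⁆ := by
          rw [commutatorElement_def, commutatorElement_def]; group
        rw [e']
        exact fixc (by rw [map_mul, map_mul, map_inv, hsec g hgG, hqa, f1])
          (by rw [map_mul, map_mul, map_inv, hsec g hgG, hX hs, f2, hX hs])
      rw [← e, h5, mul_inv_cancel_right]
    have zzero : z u = 1 := by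
      have hk : κ - 1 ≠ 0 := sub_ne_zero.2 hκ
      set v := u / (κ - 1) with hv
      have e : κ * v = u + v := by rw [hv]; field_simp; ring
      have := zinv v
      rw [e, zadd] at this
      exact mul_eq_right.1 this
    have : ⁅a, b⁆ = 1 := by
      rw [← zzero, hz]
      exact fixc rfl (by rw [hX hs, hqb])
    exact commutatorElement_eq_one_iff_commute.1 this
  -- preimages of one root group commute
  have phase2 : ∀ r, r < D.nroots → ∀ a b : P, ∀ t u, q a = G.X K r t → q b = G.X K r u →
      Commute a b := by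
    refine G.root_induction ?_ ?_
    · intro i hi a b t u hqa hqb
      set r := sim D i with hr_def
      have hr := G.sim_lt hi
      have hc0 := allLt_eq_true hself i hi
      simp only [Bool.or_eq_true] at hc0
      rcases hc0 with hP | hc0
      · -- scaling the root group by an arbitrary scalar
        obtain ⟨p, hp, hP⟩ := anyLt_eq_true hP
        rw [beq_iff_eq, pI, isum_eq] at hP
        obtain ⟨k, hk0, hk1, hk2⟩ := exists_good_scalar hK
        have hk1' : 1 - k ≠ 0 := sub_ne_zero.2 (Ne.symm hk1)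
        set f : K → K → P := fun v w => ⁅sec (G.X K r v), sec (G.X K r w)⁆ with hf
        have fc : ∀ v w, f v w ∈ Subgroup.center P := fun v w => hq (by
          rw [MonoidHom.mem_ker, hf, map_commutatorElement, hX hr, hX hr]
          exact commutatorElement_eq_one_iff_commute.2
            (show _ * _ = _ * _ by rw [G.X_add, G.X_add, add_comm]))
        have expL : ∀ A B C : P, ⁅B, C⁆ ∈ Subgroup.center P → ⁅A * B, C⁆ = ⁅A, C⁆ * ⁅B, C⁆ := by
          intro A B C hc
          have h5 := Subgroup.mem_center_iff.1 hc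
          calc ⁅A * B, C⁆ = A * ⁅B, C⁆ * (C * A⁻¹ * C⁻¹) := by
                simp only [commutatorElement_def]; group
            _ = ⁅B, C⁆ * (A * (C * A⁻¹ * C⁻¹)) := by rw [h5 A]; group
            _ = ⁅B, C⁆ * ⁅A, C⁆ := by simp only [commutatorElement_def]; group
            _ = _ := (h5 _).symm
        have fadd1 : ∀ v v' w, f (v + v') w = f v w * f v' w := by
          intro v v' w
          rw [hf]
          dsimp only
          rw [fixc (b := sec (G.X K r w)) (b' := sec (G.X K r w))
            (a' := sec (G.X K r v) * sec (G.X K r v'))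
            (by rw [map_mul, hX hr, hX hr, hX hr, G.X_add]) rfl]
          exact expL _ _ _ (fc v' w)
        have fswap : ∀ v w, f w v = (f v w)⁻¹ := fun v w => by
          rw [hf]; exact (commutatorElement_inv _ _).symm
        have fadd2 : ∀ v w w', f v (w + w') = f v w * f v w' := by
          intro v w w'
          have h5 := Subgroup.mem_center_iff.1 (inv_mem (fc w v)) (f w' v)⁻¹
          rw [fswap (w + w') v, fadd1, mul_inv_rev, h5, fswap w v, fswap w' v]
        have finv : ∀ c : K, c ≠ 0 → ∀ v w, f (c * v) (c * w) = f v w := by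
          intro c hc' v w
          have hg := G.Hg_mem_group (F := K) hp c
          set h := sec (G.Hg K p c)
          have hconj : ∀ x, q (h * sec (G.X K r x) * h⁻¹) = q (sec (G.X K r (c * x))) := fun x => by
            rw [map_mul, map_mul, map_inv, hsec _ hg, hX hr, hX hr, G.Hg_conj_X hp hr hc',
              show Cfsg.Agent.Lib.Chev.P D T p r = 1 from hP, zpow_one]
          have h5 := Subgroup.mem_center_iff.1 (fc v w) h
          have e : h * f v w * h⁻¹ = f (c * v) (c * w) := by
            rw [hf]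
            dsimp only
            rw [← fixc (hconj v) (hconj w), commutatorElement_def, commutatorElement_def]
            group
          rw [← e, h5, mul_inv_cancel_right]
        have fshift : ∀ c : K, c ≠ 0 → ∀ v w, f (c * v) w = f v (c⁻¹ * w) := fun c hc' v w => by
          conv_rhs => rw [← finv c hc', ← mul_assoc, mul_inv_cancel₀ hc', one_mul]
        have fzero : f t u = 1 := by
          set w := u / (1 - k⁻¹ - (1 - k)⁻¹) with hw'
          have hden : 1 - k⁻¹ - (1 - k)⁻¹ ≠ 0 := by
            intro e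
            apply hk2
            field_simp at e
            linear_combination -e
          have h1 : f t w = f ((1 - k) * t) w * f (k * t) w := by
            rw [← fadd1]; congr 1; ring
          rw [fshift _ hk1', fshift _ hk0, ← fadd2] at h1
          have h2 := fadd2 t ((1 - k)⁻¹ * w + k⁻¹ * w) u
          have e' : w * (1 - k⁻¹ - (1 - k)⁻¹) = u := div_mul_cancel₀ _ hden
          rw [show (1 - k)⁻¹ * w + k⁻¹ * w + u = w by linear_combination -e', ← h1] at h2
          exact mul_eq_left.1 h2.symm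
        have : ⁅a, b⁆ = 1 := by
          rw [← fzero, hf]
          exact fixc (by rw [hX hr, hqa]) (by rw [hX hr, hqb])
        exact commutatorElement_eq_one_iff_commute.1 this
      obtain ⟨x, hx, hxx⟩ := anyLt_eq_true hc0
      simp only [Bool.and_eq_true] at hxx
      obtain ⟨okx, hxx⟩ := hxx
      obtain ⟨z, hz, hzz⟩ := anyLt_eq_true hxx
      simp only [Bool.and_eq_true, List.any_eq_true, List.all_eq_true, Bool.or_eq_true,
        beq_iff_eq, bne_iff_ne, ne_eq, decide_eq_true_eq, List.isEmpty_iff] at hzz okx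
      obtain ⟨⟨⟨okz, hzx⟩, hzx'⟩, c, hc, ⟨⟨⟨hcr, hCC⟩, hj⟩, hall⟩, hcount⟩ := hzz
      obtain ⟨k, C, ei, ej⟩ := c
      simp only at hcr hCC hj
      subst hj
      obtain ⟨⟨x1, x2⟩, x3⟩ := okx
      obtain ⟨⟨z1, z2⟩, z3⟩ := okz
      have hC0 : (C : K) * C = 1 := by rw [← Int.cast_mul, hCC, Int.cast_one]
      set v := (C : K) * u with hv
      set A := sec (G.X K x (-1)) with hA
      set B := sec (G.X K z v) with hB
      have cA : Commute a A := phase1 r x hr hx x1 x2 x3 a A t _ hqa (hX hx _)
      have cB : Commute a B := phase1 r z hr hz z1 z2 z3 a B t _ hqa (hX hz _)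
      have cC : Commute a ⁅B⁻¹, A⁻¹⁆ := by
        rw [commutatorElement_def]
        exact ((cB.inv_right.mul_right cA.inv_right).mul_right cB.inv_right.inv_right).mul_right
          cA.inv_right.inv_right
      have hw : G.wordG (cw T x z (-1) v) = q ⁅B⁻¹, A⁻¹⁆ := by
        rw [map_commutatorElement, map_inv, map_inv, hA, hB, hX hx, hX hz]
        have h := G.commAt x z hx hz hzx hzx' (-1) v
        rw [commutatorElement_def, inv_inv, inv_inv, mul_assoc _ (G.X K z v), h]
        group
      obtain ⟨l1, l2, hl⟩ := List.append_of_mem hc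
      have hmem : ∀ e ∈ l1 ++ l2, e.1 < D.nroots ∧ e.1 ≠ r ∧ e.1 ≠ ng D r ∧ T.terms r e.1 = [] := by
        intro e he
        have hin : e ∈ T.terms x z := by rw [hl]; simp only [List.mem_append] at he ⊢; tauto
        rcases hall e hin with h | ⟨⟨e1, e2⟩, e3⟩
        · exfalso
          rw [hl, List.filter_append, List.filter_cons, if_pos (by simp), List.length_append,
            List.length_cons] at hcount
          have hpos : 0 < (l1.filter fun w => w == (k, C, ei, 1)).length +
              (l2.filter fun w => w == (k, C, ei, 1)).length := by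
            rw [← List.length_append, ← List.filter_append]
            exact List.length_pos_of_mem (List.mem_filter.2 ⟨he, by simp [h]⟩)
          omega
        · obtain ⟨k', C', a', b'⟩ := e
          exact ⟨(G.mem_terms hx hz hin).1, e1, e2, e3⟩
      set val := fun e : ℕ × ℤ × ℕ × ℕ =>
        (e.1, (e.2.1 : K) * (-(-1 : K)) ^ e.2.2.1 * v ^ e.2.2.2) with hval
      have hval0 : val (k, C, ei, 1) = (k, u) := by
        rw [hval]
        simp [hv, ← mul_assoc, hC0]
      have hlift : ∀ l : List (ℕ × ℤ × ℕ × ℕ), (∀ e ∈ l, e ∈ l1 ++ l2) →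
          ∃ p, Commute a p ∧ q p = G.wordG (l.map val) := by
        intro l
        induction l with
        | nil => intro _; exact ⟨1, Commute.one_right _, by simp [Good.wordG]⟩
        | cons e l ih =>
          intro he
          obtain ⟨p, hp, hqp⟩ := ih fun e' he' => he e' (List.mem_cons_of_mem _ he')
          obtain ⟨g1, g2, g3, g4⟩ := hmem e (he e List.mem_cons_self)
          refine ⟨sec (G.X K (val e).1 (val e).2) * p,
            (phase1 r e.1 hr g1 g2 g3 g4 a _ t _ hqa (hX g1 _)).mul_right hp, ?_⟩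
          rw [map_mul, hX g1, hqp]
          simp [Good.wordG, hval]
      obtain ⟨p1, hp1, hq1⟩ := hlift l1 (fun e he => List.mem_append_left _ he)
      obtain ⟨p2, hp2, hq2⟩ := hlift l2 (fun e he => List.mem_append_right _ he)
      have cmid : Commute a (p1⁻¹ * ⁅B⁻¹, A⁻¹⁆ * p2⁻¹) :=
        (hp1.inv_right.mul_right cC).mul_right hp2.inv_right
      have hmid : q (p1⁻¹ * ⁅B⁻¹, A⁻¹⁆ * p2⁻¹) = q b := by
        rw [map_mul, map_mul, map_inv, map_inv, hq1, hq2, ← hw, hqb, cw, hl]
        simp only [Good.wordG, List.map_append, List.map_cons, List.prod_append, List.prod_cons,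
          List.map_map]
        have := hval0
        simp only [hval, Prod.mk.injEq] at this
        rw [this.2, hcr]
        simp only [hval, Function.comp_def]
        group
        rfl
      have : ⁅a, b⁆ = 1 := by
        rw [fixc rfl hmid.symm]
        exact commutatorElement_eq_one_iff_commute.2 cmid
      exact commutatorElement_eq_one_iff_commute.1 this
    · intro i r hi hr ih a b t u hqa hqb
      have hn := hsec _ (G.ni_mem_group (F := K) hi)
      set n := sec (G.ni K i)
      have key : ∀ p t, q p = G.X K (T.w i r) t →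
          q (n⁻¹ * p * n) = G.X K r ((T.eta i r : K) * t) := by
        intro p t hp
        rw [map_mul, map_mul, map_inv, hn, hp]
        have e := G.ni_conj_X (F := K) hi hr ((T.eta i r : K) * t)
        rw [← mul_assoc, ← Int.cast_mul, Tables.eta_mul_self, Int.cast_one, one_mul] at e
        rw [← e]; group
      have h := ih _ _ _ _ (key a t hqa) (key b u hqb)
      have e : ∀ p, p = n * (n⁻¹ * p * n) * n⁻¹ := fun p => by group
      rw [e a, e b]
      exact h.conj n
  have add : ∀ r, r < D.nroots → ∀ t u, y r t * y r u = y r (t + u) := by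
    intro r hr t u
    set H := sec (G.Hg K r c)
    set A := sec (G.X K r (t / (c ^ 2 - 1))) with hA
    set B := sec (G.X K r (u / (c ^ 2 - 1)))
    have e1 : y r (t + u) = ⁅H, A * B⁆ :=
      fixc rfl (by rw [map_mul, hX hr, hX hr, hX hr, G.X_add, add_div])
    have c1 : Commute A ⁅H, B⁆ :=
      phase2 r hr A _ _ u (hX hr _) (qy r hr u)
    rw [e1, hy]
    show ⁅H, A⁆ * ⁅H, B⁆ = ⁅H, A * B⁆
    calc ⁅H, A⁆ * ⁅H, B⁆ = H * A * H⁻¹ * A⁻¹ * (⁅H, B⁆ * A) * A⁻¹ := by
          rw [commutatorElement_def H A]; group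
      _ = H * A * H⁻¹ * A⁻¹ * (A * ⁅H, B⁆) * A⁻¹ := by rw [c1.eq]
      _ = _ := by rw [commutatorElement_def, commutatorElement_def]; group
  refine LiftSys.exists_hom (G := G) ⟨q, y, qy, add, ?_⟩
  intro S hinj r s hr hs h1 h2 hsS t himg u
  obtain ⟨g, hg, κ, hκ, f1, f2⟩ := G.exists_separating hK hsep r hr s hs h1 h2
  set Q := liftSpan D y S
  choose e heQ heq using himg
  set z : K → P := fun v => y r t * y s v * (y r t)⁻¹ * (e v)⁻¹ with hz
  have zc : ∀ v, z v ∈ Subgroup.center P := fun v => hq (by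
    rw [MonoidHom.mem_ker, hz, map_mul, map_inv, heq, mul_inv_cancel])
  have zadd : ∀ v w, z (v + w) = z v * z w := by
    intro v w
    have e2 : e (v + w) = e v * e w := hinj (heQ _) (mul_mem (heQ v) (heQ w)) (by
      simp only [map_mul, map_inv, heq, qy _ hr, qy _ hs, ← G.X_add s v w]
      group)
    have h5 := Subgroup.mem_center_iff.1 (zc w) (e v)⁻¹
    calc z (v + w) = y r t * y s v * (y r t)⁻¹ * (z w * (e v)⁻¹) := by
          simp only [hz]; rw [e2, ← add s hs v w]; group
      _ = y r t * y s v * (y r t)⁻¹ * ((e v)⁻¹ * z w) := by rw [h5]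
      _ = _ := by simp only [hz]; group
  have hgG : g ∈ D.group K := G.borel_le_group (Subgroup.mem_sup_right hg)
  set h := sec g with hh
  have hqh : q h = g := hsec g hgG
  have hQ : ∀ x ∈ Q, h * x * h⁻¹ ∈ Q := by
    intro x hx
    have hle : Q ≤ Q.comap (MulAut.conj h).toMonoidHom := by
      refine (Subgroup.closure_le _).2 ?_
      rintro x ⟨j, v, hj, hjS, rfl⟩
      obtain ⟨-, cj, -, hcj⟩ := G.act_diag hg j hj
      show h * y j v * h⁻¹ ∈ Q
      rw [equiv g hg j hj cj hcj h hqh v]
      exact mem_liftSpan hj hjS _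
    exact hle hx
  have zinv : ∀ v, z (κ * v) = z v := by
    intro v
    have yr : h * y r t * h⁻¹ = y r t := by
      have := equiv g hg r hr 1 (fun w => by rw [one_mul]; exact f1 w) h hqh t
      rwa [one_mul] at this
    have ys : h * y s v * h⁻¹ = y s (κ * v) := equiv g hg s hs κ f2 h hqh v
    have ee : h * e v * h⁻¹ = e (κ * v) := hinj (hQ _ (heQ v)) (heQ _) (by
      rw [map_mul, map_mul, map_inv, heq, heq, ← ys]
      conv_rhs => rw [← yr]
      simp only [map_mul, map_inv]
      group)
    have h5 := Subgroup.mem_center_iff.1 (zc v) h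
    calc z (κ * v) = (h * y r t * h⁻¹) * (h * y s v * h⁻¹) * (h * y r t * h⁻¹)⁻¹ *
          (h * e v * h⁻¹)⁻¹ := by rw [yr, ys, ee]
      _ = h * z v * h⁻¹ := by simp only [hz]; group
      _ = _ := by rw [h5, mul_inv_cancel_right]
  have hk : κ - 1 ≠ 0 := sub_ne_zero.2 hκ
  have zone : z u = 1 := by
    set v := u / (κ - 1) with hv
    have e' : κ * v = u + v := by rw [hv]; field_simp; ring
    have := zinv v
    rw [e', zadd] at this
    exact mul_eq_right.1 this
  rw [hz, mul_inv_eq_one] at zone
  show y r t * y s u * (y r t)⁻¹ ∈ Q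
  rw [zone]
  exact heQ u

end Good

end Cfsg.Agent.Lib.Chev
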