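import Cfsg.Agent.Lib.Chev.Cov.Bruhat
import Cfsg.Agent.Lib.Chev.Perfect

/-!
The group of the first two relator families is perfect.
-/

set_option autoImplicit false

namespace Cfsg.Agent.Lib.Chev

open Cfsg.Lie
open scoped Matrix commutatorElement

variable {D : ChevalleyDatum} {T : Tables} {F : Type*} [Field F]

theorem c_wordB_append (w w' : List (ℕ × F)) :
    c_wordB D F (w ++ w') = c_wordB D F w * c_wordB D F w' := by
  simp [c_wordB]

theorem c_wordB_cons (p : ℕ × F) (w : List (ℕ × F)) :
    c_wordB D F (p :: w) = c_xb D F p.1 p.2 * c_wordB D F w := by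
  simp [c_wordB]

theorem c_wordB_mem {w : List (ℕ × F)} {S : Subgroup (D.SteinbergCover F)}
    (h : ∀ p ∈ w, c_xb D F p.1 p.2 ∈ S) : c_wordB D F w ∈ S :=
  list_prod_mem fun x hx => by
    obtain ⟨p, hp, rfl⟩ := List.mem_map.1 hx
    exact h p hp

namespace Good

variable (G : Good D T)
include G

theorem c_word_cw_mem {a b : ℕ} (ha : a < D.nroots) (hb : b < D.nroots) (h1 : b ≠ a)
    (h2 : b ≠ ng D a) (t u : F) :
    c_wordB D F (cw T a b t u) ∈ commutator (D.SteinbergCover F) := by
  have h := c_xb_comm (K := F) ha hb h1 (by rw [G.neg_eq ha]; exact h2) t u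
  rw [G.commWord_eq ha hb] at h
  have e : c_wordB D F (cw T a b t u) = ⁅(c_xb D F b u)⁻¹, (c_xb D F a t)⁻¹⁆ := by
    rw [commutatorElement_def, inv_inv, inv_inv, mul_assoc _ (c_xb D F b u), h]
    group
  rw [e, commutator_def]
  exact Subgroup.commutator_mem_commutator (Subgroup.mem_top _) (Subgroup.mem_top _)

theorem c_xb_mem_w (hadj : chkAdj D T = true) {i r : ℕ} (hi : i < D.rank) (hr : r < D.nroots)
    (h : ∀ t : F, c_xb D F r t ∈ commutator (D.SteinbergCover F)) (t : F) :
    c_xb D F (T.w i r) t ∈ commutator (D.SteinbergCover F) := by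
  have hs := G.sim_lt hi
  have h1 := h ((T.eta i r : F) * t)
  have hth : G.c_th F (c_nb D F (sim D i) 1) = G.ni F i := by rw [G.c_th_nb hs]; rfl
  have e := G.c_mv_eq (G.c_mv_nb hadj hs one_ne_zero) hr (G.w_lt hi hr)
    (u := (T.eta i r : F) * t) (c := t) (by
      rw [hth, G.ni_conj_X hi hr, ← mul_assoc, ← Int.cast_mul, Tables.eta_mul_self, Int.cast_one,
        one_mul])
  rw [← e]
  exact Subgroup.Normal.conj_mem inferInstance _ h1 _

theorem c_wordB_known {known : List ℕ}
    (hk : ∀ k ∈ known, k < D.nroots ∧ ∀ t : F, c_xb D F k t ∈ commutator (D.SteinbergCover F))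
    {l : List (ℕ × ℤ × ℕ × ℕ)} (hl : allKnown known l = true) (f : ℕ × ℤ × ℕ × ℕ → F) :
    c_wordB D F (l.map fun c => (c.1, f c)) ∈ commutator (D.SteinbergCover F) := by
  refine c_wordB_mem fun p hp => ?_
  obtain ⟨c, hc, rfl⟩ := List.mem_map.1 hp
  have := List.all_eq_true.1 hl c hc
  exact (hk c.1 (by simpa using this)).2 _

theorem c_pstep_sound (hadj : chkAdj D T = true) {hasC : Bool} (hC : hasC = true → ∃ c : F, c ≠ 0 ∧ c ≠ 1) {known : List ℕ}
    (hk : ∀ k ∈ known, k < D.nroots ∧ ∀ t : F, c_xb D F k t ∈ commutator (D.SteinbergCover F)) {s : PStep}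
    {k : ℕ} (h : pstep D T hasC known s = some k) :
    k < D.nroots ∧ ∀ t : F, c_xb D F k t ∈ commutator (D.SteinbergCover F) := by
  cases s with
  | move i r =>
    simp only [pstep, Option.ite_none_right_eq_some, Bool.and_eq_true, decide_eq_true_eq,
      Option.some.injEq] at h
    obtain ⟨⟨⟨hi, hr⟩, hm⟩, rfl⟩ := h
    exact ⟨G.w_lt hi hr, G.c_xb_mem_w hadj hi hr (hk r (by simpa using hm)).2⟩
  | single a b m =>
    simp only [pstep] at h
    split at h
    case h_2 => simp at h
    case h_1 k' C i j rest hd =>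
      simp only [Option.ite_none_right_eq_some, Bool.and_eq_true, decide_eq_true_eq,
        Option.some.injEq] at h
      obtain ⟨⟨⟨⟨⟨⟨⟨⟨ha, hb⟩, h1⟩, h2⟩, hj⟩, hCC⟩, hpre⟩, hpost⟩, rfl⟩ := h
      subst hj
      have hsplit : T.terms a b = (T.terms a b).take m ++ (k', C, i, 1) :: rest := by
        rw [← hd, List.take_append_drop]
      have hmem : (k', C, i, 1) ∈ T.terms a b := by rw [hsplit]; simp
      refine ⟨(G.mem_terms ha hb hmem).1, fun v => ?_⟩
      have h3 := G.c_word_cw_mem (F := F) ha hb h1 h2 (-1) ((C : F) * v)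
      rw [cw, hsplit, List.map_append, List.map_cons, c_wordB_append] at h3
      set f := fun c : ℕ × ℤ × ℕ × ℕ => ((c.2.1 : F) * (-(-1)) ^ c.2.2.1 * ((C : F) * v) ^ c.2.2.2)
      have h4 := G.c_wordB_known hk hpre f
      have h5 := G.c_wordB_known hk hpost f
      rw [Subgroup.mul_mem_cancel_left _ h4] at h3
      rw [c_wordB_cons] at h3
      rw [Subgroup.mul_mem_cancel_right _ h5] at h3
      convert h3 using 2
      rw [neg_neg, one_pow, mul_one, pow_one, ← mul_assoc, ← Int.cast_mul, hCC, Int.cast_one, one_mul]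
  | pair a b =>
    simp only [pstep] at h
    split at h
    case h_2 => simp at h
    case h_1 k1 C1 i1 j1 k2 C2 i2 j2 rest hd =>
      simp only [Option.ite_none_right_eq_some, Bool.and_eq_true, decide_eq_true_eq,
        Option.some.injEq] at h
      obtain ⟨⟨⟨⟨⟨⟨⟨⟨⟨⟨⟨hc, ha⟩, hb⟩, h1⟩, h2⟩, hi1⟩, hj1⟩, hi2⟩, hj2⟩, hCC⟩, hrest⟩, rfl⟩ := h
      subst hi1 hj1 hi2 hj2
      obtain ⟨c, hc0, hc1⟩ := hC hc
      refine ⟨(G.mem_terms ha hb (C := C2) (a := 2) (b := 1) (by rw [hd]; simp)).1, fun v => ?_⟩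
      have hk2 : k2 < D.nroots := (G.mem_terms ha hb (C := C2) (a := 2) (b := 1) (by rw [hd]; simp)).1
      have key : ∀ t u : F, c_xb D F k1 ((C1 : F) * -t * u) * c_xb D F k2 ((C2 : F) * t ^ 2 * u) ∈
          commutator (D.SteinbergCover F) := by
        intro t u
        have h3 := G.c_word_cw_mem (F := F) ha hb h1 h2 t u
        have h5 := G.c_wordB_known hk hrest
          (fun c => (c.2.1 : F) * (-t) ^ c.2.2.1 * u ^ c.2.2.2)
        rw [cw, hd] at h3
        simp only [List.map_cons, c_wordB_cons, pow_one, neg_sq] at h3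
        rw [← mul_assoc] at h3
        rwa [Subgroup.mul_mem_cancel_right _ h5] at h3
      set w := (C2 : F) * v / (c - 1) with hw
      have hm := mul_mem (inv_mem (key (-1) w)) (key (-c) (w / c))
      have e1 : (C1 : F) * -(-c) * (w / c) = (C1 : F) * w := by
        rw [neg_neg, mul_assoc, mul_div_cancel₀ _ hc0]
      rw [mul_inv_rev, e1, neg_neg, mul_one, mul_assoc, inv_mul_cancel_left, c_xb_inv hk2, c_xb_add hk2] at hm
      have hc1' : c - 1 ≠ 0 := sub_ne_zero.2 hc1
      have hC2 : (C2 : F) * C2 = 1 := by rw [← Int.cast_mul, hCC, Int.cast_one]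
      convert hm using 2
      rw [hw]
      field_simp
      linear_combination (v - v * c) * hC2

theorem c_prun_sound (hadj : chkAdj D T = true) {hasC : Bool} (hC : hasC = true → ∃ c : F, c ≠ 0 ∧ c ≠ 1) :
    ∀ (l : List PStep) (known res : List ℕ),
    (∀ k ∈ known, k < D.nroots ∧ ∀ t : F, c_xb D F k t ∈ commutator (D.SteinbergCover F)) →
    prun D T hasC l known = some res →
    ∀ k ∈ res, k < D.nroots ∧ ∀ t : F, c_xb D F k t ∈ commutator (D.SteinbergCover F) := by
  intro l
  induction l with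
  | nil => intro known res hk h; simp only [prun, Option.some.injEq] at h; exact h ▸ hk
  | cons s l ih =>
    intro known res hk h
    simp only [prun] at h
    split at h
    case h_2 => simp at h
    case h_1 k hs =>
      refine ih (k :: known) res (fun x hx => ?_) h
      rcases List.mem_cons.1 hx with rfl | hx
      · exact G.c_pstep_sound hadj hC hk hs
      · exact hk x hx

/-- Perfectness. -/
theorem c_perfect (hadj : chkAdj D T = true) {hasC : Bool}
    (hC : hasC = true → ∃ c : F, c ≠ 0 ∧ c ≠ 1) {l : List PStep}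
    (h : chkPerfect D T hasC l = true) : commutator (D.SteinbergCover F) = ⊤ := by
  unfold chkPerfect at h
  split at h
  case h_2 => simp at h
  case h_1 res hres =>
    have hall := G.c_prun_sound hadj hC l [] res (fun k hk => by simp at hk) hres
    refine eq_top_iff.2 fun g _ => c_st_generated _ ?_ g
    refine G.root_induction (fun i hi t => ?_) fun i r hi hr ih t => G.c_xb_mem_w hadj hi hr ih t
    exact (hall _ (by simpa using allLt_eq_true h i hi)).2 t

end Good

end Cfsg.Agent.Lib.Chev
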