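import Cfsg.Agent.Lib.Chev.Cov.LiftP

/-!
Universality of the cover, and lifting of projective representations.
-/

set_option autoImplicit false

namespace Cfsg.Agent.Lib.Chev

open Cfsg.Lie
open scoped Matrix commutatorElement

variable {D : ChevalleyDatum} {T : Tables} {K : Type*} [Field K]

theorem exists_lift_data (hD : D ∈ [chevG2, chevB2, chevD4, chevF4, chevE6, chevE7, chevE8]) :
    ∃ T, Good D T ∧ chkAdj D T = true ∧ chkSep D T = true ∧ chkSelf D T = true := by
  simp only [List.mem_cons, List.not_mem_nil, or_false] at hD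
  rcases hD with rfl | rfl | rfl | rfl | rfl | rfl | rfl
  exacts [⟨_, goodG2, adjG2, by decide +kernel, by decide +kernel⟩,
    ⟨_, goodB2, adjB2, by decide +kernel, by decide +kernel⟩,
    ⟨_, goodD4, adjD4, by decide +kernel, by decide +kernel⟩,
    ⟨_, goodF4, adjF4, by decide +kernel, by decide +kernel⟩,
    ⟨_, goodE6, adjE6, by decide +kernel, by decide +kernel⟩,
    ⟨_, goodE7, adjE7, by decide +kernel, by decide +kernel⟩,
    ⟨_, goodE8, adjE8, by decide +kernel, by decide +kernel⟩]

/-- In a central extension of a perfect group, preimages of central elements are central. -/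
theorem mem_center_of_map {A B : Type*} [Group A] [Group B] {f : A →* B}
    (hf : Function.Surjective f) (hk : f.ker ≤ Subgroup.center A) (hB : commutator B = ⊤) {x : A}
    (hx : f x ∈ Subgroup.center B) : x ∈ Subgroup.center A := by
  have h1 : ∀ a, x * a * x⁻¹ * a⁻¹ ∈ Subgroup.center A := fun a => hk (by
    rw [MonoidHom.mem_ker, map_mul, map_mul, map_mul, map_inv, map_inv,
      ← Subgroup.mem_center_iff.1 hx (f a), mul_inv_cancel_right, mul_inv_cancel])
  set S := Subgroup.centralizer ({x} : Set A) with hS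
  have h2 : commutator A ≤ S := by
    rw [commutator_eq_closure]
    refine (Subgroup.closure_le _).2 ?_
    rintro g ⟨a, b, rfl⟩
    rw [SetLike.mem_coe, hS, Subgroup.mem_centralizer_singleton_iff]
    have hq : (QuotientGroup.mk' (Subgroup.center A)).ker ≤ Subgroup.center A :=
      (QuotientGroup.ker_mk' _).le
    have hqq : ∀ a, QuotientGroup.mk' (Subgroup.center A) (x * a * x⁻¹) =
        QuotientGroup.mk' (Subgroup.center A) a := fun a => by
      rw [← mul_inv_eq_one, ← map_inv, ← map_mul, QuotientGroup.mk'_apply,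
        QuotientGroup.eq_one_iff]
      exact h1 a
    have key : ⁅x * a * x⁻¹, x * b * x⁻¹⁆ = ⁅a, b⁆ := by
      have hz : ∀ a, ∃ z ∈ Subgroup.center A, x * a * x⁻¹ = z * a := fun a =>
        ⟨x * a * x⁻¹ * a⁻¹, h1 a, by group⟩
      obtain ⟨z, hzc, ea⟩ := hz a
      obtain ⟨w, hwc, eb⟩ := hz b
      have cz : ∀ g, g * z = z * g := Subgroup.mem_center_iff.1 hzc
      have cw : ∀ g, g * w = w * g := Subgroup.mem_center_iff.1 hwc
      rw [ea, eb, commutatorElement_def, commutatorElement_def]
      calc z * a * (w * b) * (z * a)⁻¹ * (w * b)⁻¹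
          = z * (a * w) * b * a⁻¹ * z⁻¹ * b⁻¹ * w⁻¹ := by group
        _ = (z * w) * (a * b * a⁻¹) * z⁻¹ * b⁻¹ * w⁻¹ := by rw [cw a]; group
        _ = w * z * (a * b * a⁻¹) * z⁻¹ * b⁻¹ * w⁻¹ := by rw [cw z]
        _ = w * ((a * b * a⁻¹) * z) * z⁻¹ * b⁻¹ * w⁻¹ := by rw [cz (a * b * a⁻¹)]; group
        _ = w * (a * b * a⁻¹ * b⁻¹) * w⁻¹ := by group
        _ = _ := by rw [← cw (a * b * a⁻¹ * b⁻¹), mul_inv_cancel_right]
    conv_lhs => rw [← key]
    rw [commutatorElement_def, commutatorElement_def]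
    group
  refine Subgroup.mem_center_iff.2 fun a => ?_
  have h3 : f a ∈ (commutator A).map f := by
    rw [commutator_def, Subgroup.map_commutator, Subgroup.map_top_of_surjective f hf,
      ← commutator_def, hB]
    exact Subgroup.mem_top _
  obtain ⟨c, hc, hca⟩ := h3
  have h4 : c⁻¹ * a ∈ Subgroup.center A := hk (by
    rw [MonoidHom.mem_ker, map_mul, map_inv, hca, inv_mul_cancel])
  have h5 : c * (c⁻¹ * a) ∈ S := mul_mem (h2 hc) (by
    rw [hS, Subgroup.mem_centralizer_singleton_iff]
    exact (Subgroup.mem_center_iff.1 h4 x).symm)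
  rw [mul_inv_cancel_left, hS, Subgroup.mem_centralizer_singleton_iff] at h5
  exact h5

namespace Good

variable (G : Good D T)
include G

theorem c_th_range : D.group K ≤ (G.c_th K).range :=
  G.group_le_of fun r hr t => ⟨c_xb D K r t, G.c_th_xb hr t⟩

theorem c_exists_section (ha : chkAdj D T = true) (hperf : commutator (D.SteinbergCover K) = ⊤)
    (hK : ∃ s : Finset K, 4 < s.card) (hsep : chkSep D T = true) (hself : chkSelf D T = true)
    {G₁ E : Type*} [Group G₁] [Group E] (π₁ : E →* G₁) (hπ : Function.Surjective π₁)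
    (hc : π₁.ker ≤ Subgroup.center E) (σ : D.SteinbergCover K →* G₁) :
    ∃! τ : D.SteinbergCover K →* E, π₁.comp τ = σ := by
  set P : Subgroup (E × D.SteinbergCover K) :=
    (π₁.comp (MonoidHom.fst E (D.SteinbergCover K))).eqLocus
      (σ.comp (MonoidHom.snd E (D.SteinbergCover K))) with hP
  set f : P →* D.SteinbergCover K := (MonoidHom.snd E (D.SteinbergCover K)).comp P.subtype with hf
  have hmem : ∀ x : P, π₁ x.1.1 = σ x.1.2 := fun x => x.2
  have hfs : Function.Surjective f := fun d => by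
    obtain ⟨e, he⟩ := hπ (σ d)
    exact ⟨⟨(e, d), he⟩, rfl⟩
  have hfk : f.ker ≤ Subgroup.center P := by
    intro x hx
    have hx2 : x.1.2 = 1 := hx
    have hx1 : x.1.1 ∈ Subgroup.center E := hc (by rw [MonoidHom.mem_ker, hmem, hx2, map_one])
    refine Subgroup.mem_center_iff.2 fun y => Subtype.ext (Prod.ext ?_ ?_)
    · exact Subgroup.mem_center_iff.1 hx1 y.1.1
    · show y.1.2 * x.1.2 = x.1.2 * y.1.2
      rw [hx2, mul_one, one_mul]
  have hkc : (G.c_th K).ker ≤ Subgroup.center (D.SteinbergCover K) := fun x hx =>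
    (G.c_ker_le ha hx).2
  have hq : ((G.c_th K).comp f).ker ≤ Subgroup.center P := fun x hx =>
    mem_center_of_map hfs hfk hperf (hkc hx)
  obtain ⟨τ, hτ⟩ := G.exists_lift_torus ((G.c_th K).comp f) hK hsep hself hq (fun g hg => by
    obtain ⟨d, hd⟩ := G.c_th_range hg
    obtain ⟨x, rfl⟩ := hfs d
    exact ⟨x, hd⟩)
  have hid : f.comp τ = MonoidHom.id _ := hom_eq_of_perfect hperf (G.c_th K) hkc
    (by rw [MonoidHom.comp_id, ← MonoidHom.comp_assoc, hτ])
  refine ⟨((MonoidHom.fst E (D.SteinbergCover K)).comp P.subtype).comp τ, ?_, fun τ' hτ' => ?_⟩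
  · refine MonoidHom.ext fun d => ?_
    have h1 := congrFun (congrArg DFunLike.coe hid) d
    show π₁ (τ d).1.1 = σ d
    rw [hmem]
    exact congrArg σ h1
  · refine hom_eq_of_perfect hperf π₁ hc ?_
    rw [hτ']
    refine MonoidHom.ext fun d => ?_
    have h1 := congrFun (congrArg DFunLike.coe hid) d
    show σ d = π₁ (τ d).1.1
    rw [hmem]
    exact (congrArg σ h1).symm

theorem c_projective_lift (ha : chkAdj D T = true)
    (hperf : commutator (D.SteinbergCover K) = ⊤) (hsep : chkSep D T = true)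
    (hself : chkSelf D T = true) (θ : D.SteinbergCover K →* ↥(D.group K))
    (hθ : ∀ (r : ℕ) (t : K), r < D.nroots →
      ((θ (D.scGen K r t) : GL D.Idx K) : Matrix D.Idx D.Idx K) = D.x K r t)
    {L : Type*} [Field L] (hL : ringChar L = ringChar K) {n : ℕ}
    (φ : ↥(D.group K) →* GL (Fin n) L ⧸ Subgroup.center (GL (Fin n) L)) :
    ∃! ψ : D.SteinbergCover K →* GL (Fin n) L,
      (QuotientGroup.mk' (Subgroup.center (GL (Fin n) L))).comp ψ = φ.comp θ := by
  classical
  set mk := QuotientGroup.mk' (Subgroup.center (GL (Fin n) L)) with hmk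
  set det : GL (Fin n) L × ↥(D.group K) →* Lˣ :=
    (Matrix.GeneralLinearGroup.det).comp (MonoidHom.fst _ _) with hdet
  set P : Subgroup (GL (Fin n) L × ↥(D.group K)) :=
    (mk.comp (MonoidHom.fst _ ↥(D.group K))).eqLocus (φ.comp (MonoidHom.snd _ ↥(D.group K))) ⊓
      det.ker with hP
  set f : P →* ↥(D.group K) := (MonoidHom.snd _ ↥(D.group K)).comp P.subtype with hf
  have hmem : ∀ x : P, mk x.1.1 = φ x.1.2 ∧ Matrix.GeneralLinearGroup.det x.1.1 = 1 :=
    fun x => x.2
  have hθ' : (D.group K).subtype.comp θ = G.c_th K := by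
    refine PresentedGroup.ext fun p => ?_
    have e : PresentedGroup.of (rels := D.steinbergRelsAB K) p = c_xb D K p.1.val p.2 := by
      rw [c_xb, ChevalleyDatum.scGen, ChevalleyDatum.stX, dif_pos p.1.isLt]; rfl
    rw [e, G.c_th_xb p.1.isLt]
    exact G.eq_X_of_val (hθ _ _ p.1.isLt)
  have hθs : Function.Surjective θ := fun g => by
    obtain ⟨d, hd⟩ := G.c_th_range g.2
    exact ⟨d, Subtype.ext (by rw [← hd, ← hθ']; rfl)⟩
  have hGp : commutator ↥(D.group K) = ⊤ := by
    rw [← Subgroup.map_top_of_surjective θ hθs, ← hperf, commutator_def, commutator_def,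
      Subgroup.map_commutator, Subgroup.map_top_of_surjective θ hθs]
  have hfs : Function.Surjective f := by
    have h1 : commutator ↥(D.group K) ≤ f.range := by
      rw [commutator_eq_closure]
      refine (Subgroup.closure_le _).2 ?_
      rintro g ⟨a, b, rfl⟩
      obtain ⟨a', ha'⟩ := QuotientGroup.mk'_surjective _ (φ a)
      obtain ⟨b', hb'⟩ := QuotientGroup.mk'_surjective _ (φ b)
      refine ⟨⟨(⁅a', b'⁆, ⁅a, b⁆), ?_, ?_⟩, rfl⟩
      · show mk ⁅a', b'⁆ = φ ⁅a, b⁆
        rw [map_commutatorElement, map_commutatorElement, hmk, ha', hb']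
      · show Matrix.GeneralLinearGroup.det ⁅a', b'⁆ = 1
        rw [map_commutatorElement]
        exact commutatorElement_eq_one_iff_commute.2 (Commute.all _ _)
    intro g
    exact h1 (hGp ▸ Subgroup.mem_top g)
  set q : P →* GL D.Idx K := (D.group K).subtype.comp f with hq_def
  have hker : ∀ x ∈ q.ker, x.1.2 = 1 ∧ x.1.1 ∈ Subgroup.center (GL (Fin n) L) := by
    intro x hx
    have hx2 : x.1.2 = 1 := Subtype.ext hx
    refine ⟨hx2, ?_⟩
    rw [← QuotientGroup.eq_one_iff]
    have := (hmem x).1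
    rw [hx2, map_one] at this
    exact this
  have hq : q.ker ≤ Subgroup.center P := by
    intro x hx
    obtain ⟨h2, h1⟩ := hker x hx
    refine Subgroup.mem_center_iff.2 fun y => Subtype.ext (Prod.ext ?_ ?_)
    · exact Subgroup.mem_center_iff.1 h1 y.1.1
    · show y.1.2 * x.1.2 = x.1.2 * y.1.2
      rw [h2, mul_one, one_mul]
  have hr : D.group K ≤ q.range := fun g hg => by
    obtain ⟨x, hx⟩ := hfs ⟨g, hg⟩
    exact ⟨x, congrArg Subtype.val hx⟩
  obtain ⟨τ, hτ⟩ : ∃ τ : D.SteinbergCover K →* P, q.comp τ = G.c_th K := by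
    rcases Nat.eq_zero_or_pos (ringChar K) with h0 | hpos
    · haveI : CharZero K := (CharP.ringChar_zero_iff_CharZero K).1 h0
      haveI : Infinite K := Infinite.of_injective _ (Nat.cast_injective (R := K))
      obtain ⟨s, hs⟩ := Infinite.exists_subset_card_eq K 5
      exact G.exists_lift_torus q ⟨s, by omega⟩ hsep hself hq hr
    · set p := ringChar K
      haveI : NeZero p := ⟨hpos.ne'⟩
      haveI : Fact p.Prime := CharP.char_is_prime_of_pos K p
      haveI : CharP L p := hL ▸ ringChar.charP L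
      haveI : CharP K p := ringChar.charP K
      have hscal : ∀ x ∈ q.ker, ∃ c : L,
          (x.1.1 : Matrix (Fin n) (Fin n) L) = Matrix.scalar (Fin n) c ∧ c ^ n = 1 := by
        intro x hx
        obtain ⟨c, hc⟩ := Matrix.GeneralLinearGroup.mem_center_iff_val_mem_range_scalar.1
          (hker x hx).2
        refine ⟨c, hc.symm, ?_⟩
        have h2 := congrArg Units.val (hmem x).2
        rw [Matrix.GeneralLinearGroup.val_det_apply, ← hc, Matrix.scalar_apply,
          Matrix.det_diagonal, Finset.prod_const, Finset.card_univ, Fintype.card_fin,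
          Units.val_one] at h2
        exact h2
      have hone : ∀ x ∈ q.ker, ∀ c : L,
          (x.1.1 : Matrix (Fin n) (Fin n) L) = Matrix.scalar (Fin n) c → c = 1 → x = 1 := by
        intro x hx c hc h1
        refine Subtype.ext (Prod.ext (Units.ext ?_) (hker x hx).1)
        show (x.1.1 : Matrix (Fin n) (Fin n) L) = 1
        rw [hc, h1, map_one]
      refine G.exists_lift_p q (p := p) hq hr (fun x hx hxp => ?_) fun x hx => ?_
      · obtain ⟨c, hc, -⟩ := hscal x hx
        rcases Nat.eq_zero_or_pos n with rfl | hn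
        · exact hone x hx 1 (Subsingleton.elim _ _) rfl
        refine hone x hx c hc (frobenius_inj L p ?_)
        have h3 := congrArg (fun y : P => ((y.1.1 : GL (Fin n) L) : Matrix (Fin n) (Fin n) L)) hxp
        simp only [SubmonoidClass.coe_pow, Prod.pow_fst, Units.val_pow_eq_pow_val, hc,
          ← map_pow, OneMemClass.coe_one, Prod.fst_one, Units.val_one] at h3
        have h4 := congrArg (fun M : Matrix (Fin n) (Fin n) L => M ⟨0, hn⟩ ⟨0, hn⟩) h3
        simpa [frobenius_def] using h4
      · obtain ⟨c, hc, hcn⟩ := hscal x hx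
        rcases Nat.eq_zero_or_pos n with rfl | hn
        · rw [hone x hx 1 (Subsingleton.elim _ _) rfl]; exact IsOfFinOrder.one
        refine isOfFinOrder_iff_pow_eq_one.2 ⟨n, hn, hone _ (pow_mem hx n) 1 ?_ rfl⟩
        simp only [SubmonoidClass.coe_pow, Prod.pow_fst, Units.val_pow_eq_pow_val, hc,
          ← map_pow, hcn]
  have hft : f.comp τ = θ := by
    refine MonoidHom.ext fun d => Subtype.ext ?_
    have h1 := congrFun (congrArg DFunLike.coe (hτ.trans hθ'.symm)) d
    exact h1
  refine ⟨((MonoidHom.fst _ ↥(D.group K)).comp P.subtype).comp τ, ?_, fun ψ hψ => ?_⟩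
  · refine MonoidHom.ext fun d => ?_
    show mk (τ d).1.1 = φ (θ d)
    rw [(hmem _).1, ← hft]
    rfl
  · refine hom_eq_of_perfect hperf mk (QuotientGroup.ker_mk' _).le ?_
    rw [hψ]
    refine MonoidHom.ext fun d => ?_
    show φ (θ d) = mk (τ d).1.1
    rw [(hmem _).1, ← hft]
    rfl

end Good

end Cfsg.Agent.Lib.Chev
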